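import Cfsg.Agent.SLThree.Singer.Model
import Cfsg.Agent.S0205
import Mathlib.GroupTheory.Solvable
import Mathlib.LinearAlgebra.LinearIndependent.Basic
import Mathlib.LinearAlgebra.Matrix.Charpoly.Coeff
import Mathlib.RingTheory.Adjoin.Basic

/-!
# Overgroups of odd order of the Singer torus

They are solvable. A commutative normal subgroup generates an algebra which is a field, since its
nilpotent elements and idempotents are moved too little by the torus, and so it lies in the torus. A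
normal subgroup with scalar commutators has at most nine classes modulo scalars, so it commutes with
the torus, too.
-/

set_option autoImplicit false
set_option linter.unusedSectionVars false

namespace CfsgLib.SLThree.Singer

open Matrix Cfsg.Geo CfsgLib.MaxSub

variable {F : Type*} [Field F] [Fintype F] {L : Type*} [Field L] [Algebra F L] [Finite L]
  (e : L ≃ₗ[F] (Fin 3 → F)) {M : Subgroup (GL (Fin 3) F)}

/-- Being a scalar. -/
def Scal (g : GL (Fin 3) F) : Prop :=
  ∃ z : F, (g : Matrix (Fin 3) (Fin 3) F) = algebraMap F (Matrix (Fin 3) (Fin 3) F) z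

/-- Normalising the field. -/
def Normalises (g : GL (Fin 3) F) : Prop :=
  ∀ a : L, ∃ b : L, (g : Matrix (Fin 3) (Fin 3) F) * mat e a * ((g⁻¹ : GL (Fin 3) F) :
    Matrix (Fin 3) (Fin 3) F) = mat e b

theorem exists_of_commute {b : L} (hb : ∀ z, algebraMap F L z ≠ b) {X : Matrix (Fin 3) (Fin 3) F}
    (h : Commute X (mat e b)) : ∃ u, mat e u = X := by
  have hall : ∀ a, Commute X (mat e a) := fun a => by
    have := mem_subalgebra e (S := (Subalgebra.centralizer F ({X} : Set (Matrix (Fin 3) (Fin 3) F))).comap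
      (mat e)) (d := b) (by
        rw [Subalgebra.mem_comap, Subalgebra.mem_centralizer_iff]
        rintro _ rfl
        exact h) hb a
    rw [Subalgebra.mem_comap, Subalgebra.mem_centralizer_iff] at this
    exact this X rfl
  obtain ⟨u, hu⟩ := e.surjective (X *ᵥ e 1)
  refine ⟨u, Matrix.ext_of_mulVec_single fun i => ?_⟩
  obtain ⟨a, ha⟩ := e.surjective (Pi.single i 1)
  have h1 : X *ᵥ e a = mat e a *ᵥ (X *ᵥ e 1) := by
    rw [mulVec_mulVec, ← (hall a).eq, ← mulVec_mulVec, mat_mulVec, mul_one]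
  rw [← ha, mat_mulVec, h1, ← hu, mat_mulVec, mul_comm]

include e in
theorem pow_not_scalar {c : Lˣ} (hc : Algebra.norm F (c : L) = 1) {s : ℕ} (hs : ¬ orderOf c ∣ 3 * s)
    (z : F) : algebraMap F L z ≠ (c : L) ^ s :=
  fun h => hs (dvd_of_pow_scalar e hc h)

/-- Conjugates by powers. -/
theorem commute_pow_of_conj_eq {g : GL (Fin 3) F} {X : Matrix (Fin 3) (Fin 3) F} {i s : ℕ}
    (h : ((g ^ i : GL (Fin 3) F) : Matrix (Fin 3) (Fin 3) F) * X * (((g ^ i)⁻¹ : GL (Fin 3) F) : Matrix _ _ F) =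
      ((g ^ (i + s) : GL (Fin 3) F) : Matrix (Fin 3) (Fin 3) F) * X *
        (((g ^ (i + s))⁻¹ : GL (Fin 3) F) : Matrix _ _ F)) :
    Commute X ((g ^ s : GL (Fin 3) F) : Matrix (Fin 3) (Fin 3) F) := by
  have h1 : X = ((g ^ s : GL (Fin 3) F) : Matrix (Fin 3) (Fin 3) F) * X *
      (((g ^ s)⁻¹ : GL (Fin 3) F) : Matrix _ _ F) := by
    rw [pow_add, Units.val_mul, _root_.mul_inv_rev, Units.val_mul] at h
    simp only [mul_assoc, Units.mul_right_inj] at h
    simp only [← mul_assoc, Units.mul_left_inj] at h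
    exact h
  show X * _ = _ * X
  conv_lhs => rw [h1]
  rw [mul_assoc, Units.inv_mul, mul_one]

/-- Four conjugates of a root of a cubic in a domain are not different. -/
theorem two_of_four {R : Type*} [CommRing R] [IsDomain R] {p₂ p₁ p₀ : R} (a : Fin 4 → R)
    (h : ∀ i, a i ^ 3 + p₂ * a i ^ 2 + p₁ * a i + p₀ = 0) : ∃ i j, i < j ∧ a i = a j := by
  by_contra hn
  push Not at hn
  have e1 : ∀ i j, i < j → a i ^ 2 + a i * a j + a j ^ 2 + p₂ * (a i + a j) + p₁ = 0 := fun i j hij =>
    (mul_eq_zero.1 (show (a i - a j) * (a i ^ 2 + a i * a j + a j ^ 2 + p₂ * (a i + a j) + p₁) = 0 by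
      linear_combination h i - h j)).resolve_left (sub_ne_zero.2 (hn i j hij))
  have e2 : ∀ i j k, i < j → j < k → a i + a j + a k + p₂ = 0 := fun i j k hij hjk =>
    (mul_eq_zero.1 (show (a j - a k) * (a i + a j + a k + p₂) = 0 by
      linear_combination e1 i j hij - e1 i k (hij.trans hjk))).resolve_left (sub_ne_zero.2 (hn j k hjk))
  exact hn 2 3 (by decide) (by linear_combination e2 0 1 2 (by decide) (by decide) - e2 0 1 3 (by decide) (by decide))

variable {c : Lˣ} (hc : Algebra.norm F (c : L) = 1)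
  (ho : orderOf c = Fintype.card F ^ 2 + Fintype.card F + 1) (hcM : gl e c ∈ M)

include hc ho hcM

/-- A commutative algebra normalised by an irreducible overgroup of the torus is in its field. -/
theorem subalgebra_le_field (hirr : MaxSub.Irreducible M) {A : Subalgebra F (Matrix (Fin 3) (Fin 3) F)}
    (hA : ∀ x ∈ A, ∀ y ∈ A, x * y = y * x) (hM : ∀ g ∈ M, ∀ x ∈ A,
      (g : Matrix (Fin 3) (Fin 3) F) * x * ((g⁻¹ : GL (Fin 3) F) : Matrix (Fin 3) (Fin 3) F) ∈ A)
    {x : Matrix (Fin 3) (Fin 3) F} (hx : x ∈ A) : ∃ u, mat e u = x := by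
  classical
  letI : CommRing A := { (inferInstance : Ring A) with mul_comm := fun a b => Subtype.ext (hA _ a.2 _ b.2) }
  have hbig : 7 ≤ orderOf c := by
    have : 2 ≤ Fintype.card F := Fintype.one_lt_card
    rw [ho]; nlinarith
  have h9 : orderOf c ≠ 9 := by
    rw [ho]
    intro h
    have : Fintype.card F ≤ 2 := by nlinarith
    interval_cases (Fintype.card F) <;> omega
  have hsmall : ∀ s, 0 < s → s ≤ 3 → ¬ orderOf c ∣ 3 * s := fun s h0 h3 hd => by
    have := Nat.le_of_dvd (by omega) hd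
    obtain rfl : s = 3 := by omega
    obtain h | h | h : orderOf c = 7 ∨ orderOf c = 8 ∨ orderOf c = 9 := by omega
    · rw [h] at hd; norm_num at hd
    · rw [h] at hd; norm_num at hd
    · exact h9 h
  -- commutation with a short power puts into the field
  have key : ∀ (X : Matrix (Fin 3) (Fin 3) F) (i j : Fin 4), i < j →
      ((gl e c ^ (i : ℕ) : GL (Fin 3) F) : Matrix (Fin 3) (Fin 3) F) * X *
          (((gl e c ^ (i : ℕ))⁻¹ : GL (Fin 3) F) : Matrix (Fin 3) (Fin 3) F) =
        ((gl e c ^ (j : ℕ) : GL (Fin 3) F) : Matrix (Fin 3) (Fin 3) F) * X *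
          (((gl e c ^ (j : ℕ))⁻¹ : GL (Fin 3) F) : Matrix (Fin 3) (Fin 3) F) → ∃ u, mat e u = X := by
    intro X i j hij heq
    obtain ⟨s, hs⟩ := Nat.exists_eq_add_of_lt (show (i : ℕ) < j from hij)
    rw [hs, add_assoc] at heq
    have h' := commute_pow_of_conj_eq heq
    rw [← map_pow] at h'
    refine exists_of_commute e (pow_not_scalar e hc (hsmall (s + 1) (by omega) (by omega))) (b := _) ?_
    rw [← Units.val_pow_eq_pow_val]
    exact h'
  have hconj : ∀ i : ℕ, ∀ X ∈ A, ((gl e c ^ i : GL (Fin 3) F) : Matrix (Fin 3) (Fin 3) F) * X *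
      (((gl e c ^ i)⁻¹ : GL (Fin 3) F) : Matrix (Fin 3) (Fin 3) F) ∈ A :=
    fun i X hX => hM _ (M.pow_mem hcM i) X hX
  -- no elements of square zero
  have hred : ∀ y ∈ A, y * y = 0 → y = 0 := by
    let K0 : Submodule F (Fin 3 → F) :=
      { carrier := {v | ∀ y ∈ A, y * y = 0 → y *ᵥ v = 0}
        add_mem' := fun {u v} hu hv y hy h => by rw [mulVec_add, hu y hy h, hv y hy h, add_zero]
        zero_mem' := fun y _ _ => mulVec_zero y
        smul_mem' := fun r v hv y hy h => by rw [mulVec_smul, hv y hy h, smul_zero] }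
    have hinv : ∀ g ∈ M, ∀ w ∈ K0, (g : Matrix (Fin 3) (Fin 3) F) *ᵥ w ∈ K0 := by
      intro g hg w hw y hy h
      have hy' := hM g⁻¹ (M.inv_mem hg) y hy
      rw [inv_inv] at hy'
      have h' := hw _ hy' (by
        simp only [mul_assoc, Units.mul_inv_cancel_left]
        rw [← mul_assoc y y, h, zero_mul, mul_zero])
      rw [mulVec_mulVec]
      have h2 := congrArg (fun v => (g : Matrix (Fin 3) (Fin 3) F) *ᵥ v) h'
      simp only [mulVec_mulVec, mulVec_zero, mul_assoc, Units.mul_inv_cancel_left] at h2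
      exact h2
    rcases hirr K0 hinv with hbot | htop
    · exfalso
      -- a minimal invariant subspace is killed
      let S : Set ℕ := {d | ∃ U : Submodule F (Fin 3 → F), U ≠ ⊥ ∧ (∀ y ∈ A, ∀ u ∈ U, y *ᵥ u ∈ U) ∧
        Module.finrank F U = d}
      have hS : ∃ d, d ∈ S := ⟨_, ⊤, top_ne_bot, fun _ _ _ _ => trivial, rfl⟩
      obtain ⟨U, hU0, hU, hUd⟩ := Nat.find_spec hS
      refine hU0 (le_bot_iff.1 (hbot ▸ fun u hu y hy h => ?_))
      let U' := U.map (Matrix.toLin' y)
      have hle : U' ≤ U := by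
        rintro _ ⟨v, hv, rfl⟩
        rw [toLin'_apply]; exact hU y hy v hv
      by_contra hne
      have hU'0 : U' ≠ ⊥ := fun h0 => hne (by
        have := Submodule.mem_map_of_mem (f := Matrix.toLin' y) hu
        rwa [show U.map (Matrix.toLin' y) = ⊥ from h0, Submodule.mem_bot, toLin'_apply] at this)
      have hinv' : ∀ z ∈ A, ∀ v ∈ U', z *ᵥ v ∈ U' := by
        rintro z hz _ ⟨v, hv, rfl⟩
        refine ⟨z *ᵥ v, hU z hz v hv, ?_⟩
        rw [toLin'_apply, toLin'_apply, mulVec_mulVec, mulVec_mulVec, hA y hy z hz]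
      have heq : U' = U := Submodule.eq_of_le_of_finrank_le hle (by
        rw [hUd]; exact Nat.find_min' hS ⟨U', hU'0, hinv', rfl⟩)
      apply hne
      obtain ⟨v, -, rfl⟩ : u ∈ U.map (Matrix.toLin' y) := by rw [show U.map (Matrix.toLin' y) = U from heq]; exact hu
      rw [toLin'_apply, mulVec_mulVec, h, zero_mulVec]
    · intro y hy h
      refine Matrix.ext_of_mulVec_single fun i => ?_
      rw [zero_mulVec]
      exact (show (Pi.single i 1 : Fin 3 → F) ∈ K0 by rw [htop]; trivial) y hy h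
  have hnil : ∀ (k : ℕ) (y : A), y ^ k = 0 → y = 0 := by
    intro k
    induction k using Nat.strong_induction_on with
    | _ k ih =>
      intro y hk
      rcases Nat.lt_or_ge k 2 with hk2 | hk2
      · interval_cases k
        · rw [pow_zero] at hk
          exact eq_zero_of_zero_eq_one hk.symm y
        · rwa [pow_one] at hk
      · refine ih (k - 1) (by omega) y ?_
        apply Subtype.ext
        refine hred _ (y ^ (k - 1)).2 ?_
        have : y ^ (k - 1) * y ^ (k - 1) = 0 := by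
          rw [← pow_add, show k - 1 + (k - 1) = k + (k - 2) by omega, pow_add, hk, zero_mul]
        exact congrArg Subtype.val this
  -- no idempotents
  have hidem : ∀ ε : A, ε * ε = ε → ε = 0 ∨ ε = 1 := by
    by_contra hcon
    push Not at hcon
    obtain ⟨ε₀, hε₀, h0, h1⟩ := hcon
    have hrk : ∃ ε : A, ε * ε = ε ∧ Module.finrank F (LinearMap.range (Matrix.toLin' (ε : Matrix (Fin 3) (Fin 3) F))) = 1 := by
      have hadd : ∀ v : Fin 3 → F, (ε₀ : Matrix (Fin 3) (Fin 3) F) *ᵥ v +
          ((1 - ε₀ : A) : Matrix (Fin 3) (Fin 3) F) *ᵥ v = v := fun v => by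
        simp [sub_mulVec]
      have hsup : LinearMap.range (Matrix.toLin' (ε₀ : Matrix (Fin 3) (Fin 3) F)) ⊔
          LinearMap.range (Matrix.toLin' ((1 - ε₀ : A) : Matrix (Fin 3) (Fin 3) F)) = ⊤ :=
        eq_top_iff.2 fun v _ => Submodule.mem_sup.2
          ⟨_, ⟨v, rfl⟩, _, ⟨v, rfl⟩, by rw [toLin'_apply, toLin'_apply]; exact hadd v⟩
      have hinf : LinearMap.range (Matrix.toLin' (ε₀ : Matrix (Fin 3) (Fin 3) F)) ⊓
          LinearMap.range (Matrix.toLin' ((1 - ε₀ : A) : Matrix (Fin 3) (Fin 3) F)) = ⊥ := by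
        rw [eq_bot_iff]
        rintro _ ⟨⟨v, rfl⟩, w, hw⟩
        rw [Submodule.mem_bot]
        rw [toLin'_apply, toLin'_apply] at hw
        rw [toLin'_apply]
        have hm : (ε₀ : Matrix (Fin 3) (Fin 3) F) * ε₀ = ε₀ := congrArg Subtype.val hε₀
        have := congrArg (fun u => (ε₀ : Matrix (Fin 3) (Fin 3) F) *ᵥ u) hw
        simp only [mulVec_mulVec, hm] at this
        rw [← this, show (ε₀ : Matrix (Fin 3) (Fin 3) F) * ((1 - ε₀ : A) : Matrix (Fin 3) (Fin 3) F) = 0 by
          simp [mul_sub, hm], zero_mulVec]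
      have hsum := Submodule.finrank_sup_add_finrank_inf_eq
        (LinearMap.range (Matrix.toLin' (ε₀ : Matrix (Fin 3) (Fin 3) F)))
        (LinearMap.range (Matrix.toLin' ((1 - ε₀ : A) : Matrix (Fin 3) (Fin 3) F)))
      rw [hsup, hinf, finrank_top, finrank_bot, Module.finrank_fin_fun, add_zero] at hsum
      have hne : ∀ E : A, E ≠ 0 →
          1 ≤ Module.finrank F (LinearMap.range (Matrix.toLin' (E : Matrix (Fin 3) (Fin 3) F))) := fun E hE => by
        rw [Submodule.one_le_finrank_iff, Ne, LinearMap.range_eq_bot, LinearEquiv.map_eq_zero_iff]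
        exact fun h => hE (Subtype.ext h)
      have := hne ε₀ h0
      have := hne (1 - ε₀) (fun h => h1 (sub_eq_zero.1 h).symm)
      by_cases h : Module.finrank F (LinearMap.range (Matrix.toLin' (ε₀ : Matrix (Fin 3) (Fin 3) F))) = 1
      · exact ⟨ε₀, hε₀, h⟩
      · exact ⟨1 - ε₀, by linear_combination hε₀, by omega⟩
    obtain ⟨ε, hε, hr⟩ := hrk
    obtain ⟨⟨v, hv⟩, hv0, hspan⟩ := finrank_eq_one_iff'.1 hr
    have hv0' : v ≠ 0 := fun h => hv0 (Subtype.ext h)
    have hεm : (ε : Matrix (Fin 3) (Fin 3) F) * ε = ε := congrArg Subtype.val hε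
    have hεv : (ε : Matrix (Fin 3) (Fin 3) F) *ᵥ v = v := by
      obtain ⟨w, hw⟩ := hv
      rw [← hw, toLin'_apply, mulVec_mulVec, hεm]
    let E : Fin 4 → Matrix (Fin 3) (Fin 3) F := fun i => ((gl e c ^ (i : ℕ) : GL (Fin 3) F) : Matrix (Fin 3) (Fin 3) F) *
      ε * (((gl e c ^ (i : ℕ))⁻¹ : GL (Fin 3) F) : Matrix (Fin 3) (Fin 3) F)
    let V : Fin 4 → (Fin 3 → F) := fun i => ((gl e c ^ (i : ℕ) : GL (Fin 3) F) : Matrix (Fin 3) (Fin 3) F) *ᵥ v
    have hEA : ∀ i, E i ∈ A := fun i => hconj _ _ ε.2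
    have hEV : ∀ i, E i *ᵥ V i = V i := fun i => by
      simp only [E, V, mulVec_mulVec, mul_assoc, Units.inv_mul, mul_one]
      rw [← mulVec_mulVec, hεv]
    have hEr : ∀ i u, ∃ r : F, E i *ᵥ u = r • V i := fun i u => by
      obtain ⟨r, hr'⟩ := hspan ⟨_, LinearMap.mem_range_self (Matrix.toLin' (ε : Matrix (Fin 3) (Fin 3) F))
        ((((gl e c ^ (i : ℕ))⁻¹ : GL (Fin 3) F) : Matrix (Fin 3) (Fin 3) F) *ᵥ u)⟩
      refine ⟨r, ?_⟩
      have h' : r • v = (ε : Matrix (Fin 3) (Fin 3) F) *ᵥ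
          ((((gl e c ^ (i : ℕ))⁻¹ : GL (Fin 3) F) : Matrix (Fin 3) (Fin 3) F) *ᵥ u) := by
        rw [← toLin'_apply]; exact congrArg Subtype.val hr'
      simp only [E, V, ← mulVec_mulVec, ← h', mulVec_smul]
    have hVne : ∀ i, V i ≠ 0 := fun i h => hv0' (by
      have := congrArg (fun u => (((gl e c ^ (i : ℕ))⁻¹ : GL (Fin 3) F) : Matrix (Fin 3) (Fin 3) F) *ᵥ u) h
      simpa only [V, mulVec_mulVec, Units.inv_mul, one_mulVec, mulVec_zero] using this)
    by_cases hsame : ∃ i j, i < j ∧ E i = E j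
    · obtain ⟨i, j, hij, hE⟩ := hsame
      obtain ⟨u, hu⟩ := key _ i j hij hE
      have hu2 : u * u = u := (mat e).toRingHom.injective (by
        show mat e (u * u) = mat e u
        rw [map_mul, hu, hεm])
      rcases eq_or_ne u 0 with rfl | hu0
      · rw [map_zero] at hu
        exact hv0' (by rw [← hεv, ← hu, zero_mulVec])
      · rw [(mul_eq_right₀ hu0).1 hu2, map_one] at hu
        rw [← hu, toLin'_one, LinearMap.range_id, finrank_top, Module.finrank_fin_fun] at hr
        omega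
    · push Not at hsame
      have hkill : ∀ i j, i ≠ j → E i *ᵥ V j = 0 := by
        intro i j hij
        obtain ⟨r, hr1⟩ := hEr i (V j)
        obtain ⟨r', hr2⟩ := hEr j (E i *ᵥ V j)
        have hsw : E j *ᵥ (E i *ᵥ V j) = E i *ᵥ V j := by
          rw [mulVec_mulVec, hA _ (hEA j) _ (hEA i), ← mulVec_mulVec, hEV]
        rw [hsw] at hr2
        by_contra hne
        have hr0 : r ≠ 0 := fun h => hne (by rw [hr1, h, zero_smul])
        -- the lines agree, so the idempotents agree
        have hline : V i = (r⁻¹ * r') • V j := by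
          rw [mul_smul, ← hr2, hr1, inv_smul_smul₀ hr0]
        have hji : E j * E i = E i := Matrix.ext_of_mulVec_single fun k => by
          obtain ⟨t, ht⟩ := hEr i (Pi.single k 1)
          rw [← mulVec_mulVec, ht, mulVec_smul, hline, mulVec_smul, hEV]
        have hij' : E i * E j = E j := Matrix.ext_of_mulVec_single fun k => by
          obtain ⟨t, ht⟩ := hEr j (Pi.single k 1)
          have hl' : r⁻¹ * r' ≠ 0 := fun h => hVne i (by rw [hline, h, zero_smul])
          have hV : E i *ᵥ V j = V j := by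
            have hVj : V j = (r⁻¹ * r')⁻¹ • V i := by rw [hline, inv_smul_smul₀ hl']
            rw [hVj, mulVec_smul, hEV]
          rw [← mulVec_mulVec, ht, mulVec_smul, hV]
        have : E i = E j := by rw [← hji, hA _ (hEA j) _ (hEA i), hij']
        rcases lt_or_gt_of_ne hij with h' | h'
        exacts [hsame i j h' this, hsame j i h' this.symm]
      have hli : LinearIndependent F V := by
        rw [Fintype.linearIndependent_iff]
        intro g hg i
        have := congrArg (fun u => E i *ᵥ u) hg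
        simp only [mulVec_sum, mulVec_smul, mulVec_zero] at this
        rw [Finset.sum_eq_single i (fun j _ hji => by rw [hkill i j (Ne.symm hji), smul_zero])
          (fun h => absurd (Finset.mem_univ i) h), hEV] at this
        exact (smul_eq_zero.1 this).resolve_right (hVne i)
      have := hli.fintype_card_le_finrank
      rw [Fintype.card_fin, Module.finrank_fin_fun] at this
      omega
  haveI : Finite A := Subtype.finite
  have hunit : ∀ y : A, y ≠ 0 → IsUnit y := by
    intro y hy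
    obtain ⟨i, j, hij, heq⟩ := Finite.exists_ne_map_eq_of_infinite fun k : ℕ => y ^ k
    wlog hlt : i < j generalizing i j
    · exact this j i (Ne.symm hij) heq.symm (by omega)
    obtain ⟨d, rfl⟩ := Nat.exists_eq_add_of_lt hlt
    have hper : ∀ m, i ≤ m → ∀ t, y ^ (m + t * (d + 1)) = y ^ m := by
      intro m hm t
      obtain ⟨r, rfl⟩ := Nat.exists_eq_add_of_le hm
      induction t with
      | zero => simp
      | succ t ih =>
        rw [show i + r + (t + 1) * (d + 1) = (i + d + 1) + (r + t * (d + 1)) by ring, pow_add, ← heq,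
          ← pow_add, ← add_assoc, ih]
    have hm : i ≤ (i + 1) * (d + 1) := by nlinarith
    rcases hidem (y ^ ((i + 1) * (d + 1))) (by rw [← pow_add]; exact hper _ hm (i + 1)) with h | h
    · exact absurd (hnil _ y h) hy
    · exact isUnit_iff_exists_inv.2 ⟨y ^ ((i + 1) * (d + 1) - 1), by
        rw [← pow_succ', Nat.sub_add_cancel (Nat.mul_pos (by omega) (by omega)), h]⟩
  haveI : Nontrivial A := ⟨0, 1, fun h => zero_ne_one (congrArg Subtype.val h)⟩
  haveI : NoZeroDivisors A := ⟨fun {a b} h => or_iff_not_imp_left.2 fun ha => (hunit a ha).mul_right_eq_zero.1 h⟩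
  haveI : IsDomain A := NoZeroDivisors.to_isDomain A
  let Y : Fin 4 → A := fun i => ⟨_, hconj (i : ℕ) x hx⟩
  obtain ⟨p₂, p₁, p₀, hroot⟩ : ∃ p₂ p₁ p₀ : F, ∀ g : GL (Fin 3) F,
      ((g : Matrix (Fin 3) (Fin 3) F) * x * ((g⁻¹ : GL (Fin 3) F) : Matrix (Fin 3) (Fin 3) F)) ^ 3 +
      p₂ • ((g : Matrix (Fin 3) (Fin 3) F) * x * ((g⁻¹ : GL (Fin 3) F) : Matrix (Fin 3) (Fin 3) F)) ^ 2 +
      p₁ • ((g : Matrix (Fin 3) (Fin 3) F) * x * ((g⁻¹ : GL (Fin 3) F) : Matrix (Fin 3) (Fin 3) F)) +
      algebraMap F _ p₀ = 0 := by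
    refine ⟨x.charpoly.coeff 2, x.charpoly.coeff 1, x.charpoly.coeff 0, fun g => ?_⟩
    have h1 := Matrix.aeval_self_charpoly ((g : Matrix (Fin 3) (Fin 3) F) * x *
      ((g⁻¹ : GL (Fin 3) F) : Matrix (Fin 3) (Fin 3) F))
    have he : ((g : Matrix (Fin 3) (Fin 3) F) * x *
        ((g⁻¹ : GL (Fin 3) F) : Matrix (Fin 3) (Fin 3) F)).charpoly = x.charpoly := by
      rw [Matrix.coe_units_inv]; exact Matrix.charpoly_units_conj g x
    rw [he] at h1
    have hd : x.charpoly.natDegree = 3 := by simp [Matrix.charpoly_natDegree_eq_dim]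
    have hlead : x.charpoly.coeff 3 = 1 := by
      have := (Matrix.charpoly_monic x).coeff_natDegree
      rwa [hd] at this
    rw [Polynomial.aeval_eq_sum_range, hd] at h1
    simp only [Finset.sum_range_succ, Finset.sum_range_zero, zero_add, pow_zero, pow_one, hlead, one_smul] at h1
    rw [Algebra.algebraMap_eq_smul_one, ← h1]
    abel
  obtain ⟨i, j, hij, hY⟩ := two_of_four (R := A) (p₂ := algebraMap F A p₂) (p₁ := algebraMap F A p₁)
    (p₀ := algebraMap F A p₀) Y (fun i => Subtype.ext (by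
      simp only [AddMemClass.coe_add, MulMemClass.coe_mul, SubmonoidClass.coe_pow, ZeroMemClass.coe_zero,
        Subalgebra.coe_algebraMap, ← Algebra.smul_def]
      exact hroot (gl e c ^ (i : ℕ))))
  exact key x i j hij (congrArg Subtype.val hY)

/-- An abelian normal subgroup is in the field; if it is not scalar, the field is normalised. -/
theorem abelian_normal (hirr : MaxSub.Irreducible M) {D : Subgroup (GL (Fin 3) F)}
    (hD : ∀ g ∈ M, ∀ a ∈ D, g * a * g⁻¹ ∈ D) (hab : ∀ a ∈ D, ∀ b ∈ D, a * b = b * a) :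
    (∀ a ∈ D, ∃ u, mat e u = (a : Matrix (Fin 3) (Fin 3) F)) ∧
      ((∃ a ∈ D, ¬ Scal a) → ∀ g ∈ M, Normalises e g) := by
  let S : Set (Matrix (Fin 3) (Fin 3) F) := (fun a : GL (Fin 3) F => (a : Matrix (Fin 3) (Fin 3) F)) '' D
  have hA : ∀ x ∈ Algebra.adjoin F S, ∀ y ∈ Algebra.adjoin F S, x * y = y * x := by
    intro x hx y hy
    refine (Algebra.commute_of_mem_adjoin_of_forall_mem_commute hy fun b hb => ?_).eq
    refine (Algebra.commute_of_mem_adjoin_of_forall_mem_commute hx fun a ha => ?_).symm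
    obtain ⟨a, ha', rfl⟩ := ha
    obtain ⟨b, hb', rfl⟩ := hb
    exact congrArg Units.val (hab b hb' a ha')
  have hM : ∀ g ∈ M, ∀ x ∈ Algebra.adjoin F S, (g : Matrix (Fin 3) (Fin 3) F) * x *
      ((g⁻¹ : GL (Fin 3) F) : Matrix (Fin 3) (Fin 3) F) ∈ Algebra.adjoin F S := by
    intro g hg x hx
    induction hx using Algebra.adjoin_induction with
    | mem x hx =>
      obtain ⟨a, ha, rfl⟩ := hx
      refine Algebra.subset_adjoin ⟨g * a * g⁻¹, hD g hg a ha, ?_⟩
      simp only [Units.val_mul]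
    | algebraMap r =>
      rw [← Algebra.commutes, mul_assoc, Units.mul_inv, mul_one]
      exact Subalgebra.algebraMap_mem _ r
    | add x y _ _ ihx ihy => rw [mul_add, add_mul]; exact add_mem ihx ihy
    | mul x y _ _ ihx ihy =>
      have : (g : Matrix (Fin 3) (Fin 3) F) * (x * y) * ((g⁻¹ : GL (Fin 3) F) : Matrix (Fin 3) (Fin 3) F) =
          ((g : Matrix (Fin 3) (Fin 3) F) * x * ((g⁻¹ : GL (Fin 3) F) : Matrix (Fin 3) (Fin 3) F)) *
          ((g : Matrix (Fin 3) (Fin 3) F) * y * ((g⁻¹ : GL (Fin 3) F) : Matrix (Fin 3) (Fin 3) F)) := by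
        simp only [mul_assoc, Units.inv_mul_cancel_left]
      rw [this]; exact mul_mem ihx ihy
  have hin : ∀ a ∈ D, ∃ u, mat e u = (a : Matrix (Fin 3) (Fin 3) F) := fun a ha =>
    subalgebra_le_field e hc ho hcM hirr hA hM (Algebra.subset_adjoin ⟨a, ha, rfl⟩)
  refine ⟨hin, ?_⟩
  rintro ⟨a, ha, hns⟩ g hg
  obtain ⟨u, hu⟩ := hin a ha
  have hnu : ∀ z, algebraMap F L z ≠ u := fun z hz => hns ⟨z, by rw [← hu, ← hz, AlgHom.commutes]⟩
  intro b
  let T : Subalgebra F L :=
    { carrier := {b | ∃ b' : L, (g : Matrix (Fin 3) (Fin 3) F) * mat e b * ((g⁻¹ : GL (Fin 3) F) :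
        Matrix (Fin 3) (Fin 3) F) = mat e b'}
      mul_mem' := by
        rintro x y ⟨x', hx⟩ ⟨y', hy⟩
        refine ⟨x' * y', ?_⟩
        rw [map_mul, map_mul, ← hx, ← hy]
        simp only [mul_assoc, Units.inv_mul_cancel_left]
      add_mem' := by
        rintro x y ⟨x', hx⟩ ⟨y', hy⟩
        exact ⟨x' + y', by rw [map_add, map_add, ← hx, ← hy, mul_add, add_mul]⟩
      algebraMap_mem' := fun r => ⟨algebraMap F L r, by
        rw [AlgHom.commutes, ← Algebra.commutes, mul_assoc, Units.mul_inv, mul_one]⟩ }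
  refine mem_subalgebra e (S := T) (d := u) ?_ hnu b
  obtain ⟨u', hu'⟩ := hin _ (hD g hg a ha)
  exact ⟨u', by rw [hu', hu, Units.val_mul, Units.val_mul]⟩

/-- **Overgroups of odd order of the Singer torus normalise its field.** -/
theorem normalises_of_odd (hirr : MaxSub.Irreducible M) (hSL : M ≤ specialLinear (Fin 3) F)
    (hodd : Odd (Nat.card M)) (h4 : Fintype.card F ≠ 4) : ∀ g ∈ M, Normalises e g := by
  classical
  have hsol : Group.IsSolvable M := Cfsg.Agent.S0205.result hodd
  obtain ⟨n, hn⟩ := (isSolvable_def (G := M)).1 hsol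
  have hex : ∃ k, ∀ a ∈ derivedSeries M k, Scal (a : GL (Fin 3) F) :=
    ⟨n, fun a ha => ⟨1, by rw [hn, Subgroup.mem_bot] at ha; subst ha; simp⟩⟩
  have hcns : ¬ Scal (gl e c) := fun ⟨z, hz⟩ => not_scalar_gen e hc ho z
    ((mat e).toRingHom.injective (by
      show mat e (algebraMap F L z) = mat e c
      rw [AlgHom.commutes, ← hz]; rfl))
  have hk : Nat.find hex ≠ 0 := fun h0 => by
    have := Nat.find_spec hex
    rw [h0, derivedSeries_zero] at this
    exact hcns (this ⟨_, hcM⟩ trivial)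
  obtain ⟨m, hm⟩ := Nat.exists_eq_succ_of_ne_zero hk
  have hspec := Nat.find_spec hex
  rw [hm, derivedSeries_succ] at hspec
  have hmin : ¬ ∀ a ∈ derivedSeries M m, Scal (a : GL (Fin 3) F) := Nat.find_min hex (by omega)
  push Not at hmin
  obtain ⟨a₀, ha₀, hns⟩ := hmin
  set D := (derivedSeries M m).map M.subtype with hDdef
  have hD : ∀ g ∈ M, ∀ a ∈ D, g * a * g⁻¹ ∈ D := by
    rintro g hg _ ⟨a, ha, rfl⟩
    exact ⟨⟨g, hg⟩ * a * ⟨g, hg⟩⁻¹, (derivedSeries_normal M m).conj_mem a ha _, rfl⟩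
  have hcomm : ∀ a ∈ D, ∀ b ∈ D, Scal (a * b * a⁻¹ * b⁻¹) := by
    rintro _ ⟨a, ha, rfl⟩ _ ⟨b, hb, rfl⟩
    exact hspec _ (Subgroup.commutator_mem_commutator ha hb)
  have ha₀D : (a₀ : GL (Fin 3) F) ∈ D := ⟨a₀, ha₀, rfl⟩
  by_cases hab : ∀ a ∈ D, ∀ b ∈ D, a * b = b * a
  · exact (abelian_normal e hc ho hcM hirr hD hab).2 ⟨_, ha₀D, hns⟩
  by_cases hZ : ∀ a ∈ D, (∀ b ∈ D, a * b = b * a) → Scal a
  swap
  · push Not at hZ
    obtain ⟨a, haD, hac, hans⟩ := hZ
    refine (abelian_normal e hc ho hcM hirr (D := D ⊓ Subgroup.centralizer (D : Set (GL (Fin 3) F))) ?_ ?_).2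
      ⟨a, ⟨haD, Subgroup.mem_centralizer_iff.2 fun b hb => (hac b hb).symm⟩, hans⟩
    · intro g hg x hx
      refine ⟨hD g hg x hx.1, Subgroup.mem_centralizer_iff.2 fun b hb => ?_⟩
      have hb' := hD g⁻¹ (M.inv_mem hg) b hb
      rw [inv_inv] at hb'
      have h := Subgroup.mem_centralizer_iff.1 hx.2 _ hb'
      calc b * (g * x * g⁻¹) = g * (g⁻¹ * b * g * x) * g⁻¹ := by group
        _ = g * (x * (g⁻¹ * b * g)) * g⁻¹ := by rw [h]
        _ = g * x * g⁻¹ * b := by group
    · exact fun x hx y hy => (Subgroup.mem_centralizer_iff.1 hx.2 y hy.1).symm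
  exfalso
  push Not at hab
  obtain ⟨a, haD, b, hbD, hne⟩ := hab
  have hdet : ∀ a ∈ D, Matrix.GeneralLinearGroup.det a = 1 := by
    rintro _ ⟨a, -, rfl⟩
    exact hSL a.2
  -- commutators are cube roots of one
  have hval : ∀ x ∈ D, ∀ y ∈ D, ∃ l : F, l ^ 3 = 1 ∧
      (y : Matrix (Fin 3) (Fin 3) F) * x = l • ((x : Matrix (Fin 3) (Fin 3) F) * y) := by
    intro x hx y hy
    obtain ⟨z, hz⟩ := hcomm y hy x hx
    refine ⟨z, ?_, ?_⟩
    · have h := congrArg Matrix.det hz
      rw [← Matrix.GeneralLinearGroup.val_det_apply, map_mul, map_mul, map_mul, map_inv, map_inv, hdet y hy,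
        hdet x hx, Algebra.algebraMap_eq_smul_one, det_smul, det_one, Fintype.card_fin] at h
      simpa using h.symm
    · rw [Algebra.smul_def, ← hz, ← Units.val_mul, ← Units.val_mul, ← Units.val_mul]
      congr 1
      group
  obtain ⟨l, hl3, hlab⟩ := hval b hbD a haD
  have hl1 : l ≠ 1 := fun h => hne (Units.ext (by rw [Units.val_mul, Units.val_mul, hlab, h, one_smul]))
  have hl0 : l ≠ 0 := fun h => by rw [h] at hl3; simp at hl3
  have h3 : 3 ∣ Fintype.card F - 1 := by
    have ho3 : orderOf (Units.mk0 l hl0) = 3 := orderOf_eq_prime (p := 3)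
      (Units.ext (by simpa using hl3)) (fun h => hl1 (by simpa using congrArg Units.val h))
    rw [← ho3, ← Fintype.card_units]
    exact orderOf_dvd_card
  have h7 : 7 ≤ Fintype.card F := by
    have : 2 ≤ Fintype.card F := Fintype.one_lt_card
    omega
  have h9 : ∀ s, 0 < s → s ≤ 9 → ¬ orderOf c ∣ 9 * s := by
    intro s h0 h9 hd
    have h := Nat.le_of_dvd (by omega) hd
    rw [ho] at h hd
    have : Fintype.card F < 9 := by nlinarith
    have : Fintype.card F = 7 := by omega
    rw [this] at hd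
    interval_cases s <;> norm_num at hd
  -- every element commutes with the torus
  have hall : ∀ x ∈ D, ∃ u, mat e u = (x : Matrix (Fin 3) (Fin 3) F) := by
    intro x hx
    by_cases hxs : Scal x
    · obtain ⟨z, hz⟩ := hxs
      exact ⟨algebraMap F L z, by rw [AlgHom.commutes, hz]⟩
    let Y : Fin 10 → GL (Fin 3) F := fun i => gl e c ^ (i : ℕ) * x * (gl e c ^ (i : ℕ))⁻¹
    have hY : ∀ i, Y i ∈ D := fun i => hD _ (M.pow_mem hcM _) x hx
    obtain ⟨i, j, hij, hsc⟩ : ∃ i j, i < j ∧ Scal (Y i * (Y j)⁻¹) := by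
      by_contra hn
      push Not at hn
      choose χ hχ3 hχ using fun (i : Fin 10) (y : D) => hval (Y i) (hY i) y y.2
      have huni : ∀ (i : Fin 10) (y : D) (r : F), (y : GL (Fin 3) F).1 * (Y i).1 = r • ((Y i).1 * (y : GL (Fin 3) F).1) →
          χ i y = r := by
        intro i y r h
        rw [hχ i y, ← sub_eq_zero, ← sub_smul, smul_eq_zero, sub_eq_zero] at h
        exact h.resolve_right ((Y i) * (y : GL (Fin 3) F)).ne_zero
      let f : Fin 10 → D →* F := fun i =>
        { toFun := χ i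
          map_one' := huni i 1 1 (by simp)
          map_mul' := fun y z => huni i _ _ (by
            rw [Subgroup.coe_mul, Units.val_mul, mul_assoc, hχ i z, mul_smul_comm, ← mul_assoc, hχ i y,
              smul_mul_assoc, smul_smul, mul_comm (χ i z), mul_assoc]) }
      have hinj : Function.Injective f := by
        intro i j hij
        by_contra hne'
        wlog hlt : i < j generalizing i j
        · exact this hij.symm (Ne.symm hne') ((le_of_not_gt hlt).lt_of_ne (Ne.symm hne'))
        refine hn i j hlt (hZ _ (D.mul_mem (hY i) (D.inv_mem (hY j))) fun y hy => ?_)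
        have hi' := hχ i ⟨y, hy⟩
        have hj' := hχ j ⟨y, hy⟩
        rw [show χ i ⟨y, hy⟩ = χ j ⟨y, hy⟩ from DFunLike.congr_fun hij ⟨y, hy⟩] at hi'
        have hl : χ j ⟨y, hy⟩ ≠ 0 := fun h => by have := hχ3 j ⟨y, hy⟩; rw [h] at this; simp at this
        have hjinv : ((Y j)⁻¹ : GL (Fin 3) F).1 * y.1 = χ j ⟨y, hy⟩ • (y.1 * ((Y j)⁻¹ : GL (Fin 3) F).1) := by
          have h' := congrArg (fun X => ((Y j)⁻¹ : GL (Fin 3) F).1 * X * ((Y j)⁻¹ : GL (Fin 3) F).1) hj'
          simp only [mul_smul_comm, smul_mul_assoc, mul_assoc, Units.mul_inv, mul_one, Units.inv_mul_cancel_left] at h'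
          exact h'
        apply Units.ext
        simp only [Units.val_mul]
        rw [mul_assoc, hjinv, mul_smul_comm, ← mul_assoc y.1, hi', smul_mul_assoc, mul_assoc]
      have hli := (linearIndependent_monoidHom D F).comp f hinj
      have hind : LinearIndependent F fun i => (Y i).1 := by
        rw [Fintype.linearIndependent_iff]
        intro g hg k
        have hrow : ∀ p r, g k * (Y k).1 p r = 0 := by
          intro p r
          refine Fintype.linearIndependent_iff.1 hli (fun i => g i * (Y i).1 p r) ?_ k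
          funext y
          simp only [Finset.sum_apply, Pi.smul_apply, Function.comp_apply, smul_eq_mul, Pi.zero_apply]
          have h' := congrArg (fun X => (y : GL (Fin 3) F).1 * X * ((y : GL (Fin 3) F)⁻¹ : GL (Fin 3) F).1) hg
          simp only [Finset.mul_sum, Finset.sum_mul, mul_smul_comm, smul_mul_assoc, hχ, mul_assoc, Units.mul_inv,
            mul_one, mul_zero, zero_mul, smul_smul] at h'
          have h'' := congrFun (congrFun h' p) r
          rw [Matrix.sum_apply] at h''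
          rw [Matrix.zero_apply] at h''
          refine (Finset.sum_congr rfl fun i _ => ?_).trans h''
          show g i * (Y i).1 p r * χ i y = _
          rw [Matrix.smul_apply, smul_eq_mul]
          ring
        by_contra hk'
        exact (Y k).ne_zero (Matrix.ext fun p r => (mul_eq_zero.1 (hrow p r)).resolve_left hk')
      have := hind.fintype_card_le_finrank
      rw [Fintype.card_fin, Module.finrank_matrix, Fintype.card_fin, Module.finrank_self] at this
      omega
    obtain ⟨s, hs⟩ := Nat.exists_eq_add_of_lt (show (i : ℕ) < j from hij)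
    obtain ⟨z, hz⟩ := hsc
    -- the cube of the power commutes
    set w := gl e c ^ (s + 1) with hw
    have hwx : (w : Matrix (Fin 3) (Fin 3) F) * x.1 * ((w⁻¹ : GL (Fin 3) F) : Matrix (Fin 3) (Fin 3) F) = z⁻¹ • x.1 ∧ z ≠ 0 := by
      have hz0 : z ≠ 0 := fun h => (Y i * (Y j)⁻¹).ne_zero (by rw [hz, h, map_zero])
      have h1 : (Y i).1 = z • (Y j).1 := by
        rw [Algebra.smul_def, ← hz, ← Units.val_mul, inv_mul_cancel_right]
      simp only [Y, hs, add_assoc, pow_add _ (i : ℕ), ← hw, _root_.mul_inv_rev, Units.val_mul] at h1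
      have h2 := congrArg (fun X => ((gl e c ^ (i : ℕ))⁻¹ : GL (Fin 3) F).1 * X * (gl e c ^ (i : ℕ)).1) h1
      simp only [mul_smul_comm, smul_mul_assoc, mul_assoc, Units.inv_mul, mul_one, Units.inv_mul_cancel_left] at h2
      refine ⟨?_, hz0⟩
      rw [mul_assoc]
      conv_rhs => rw [h2]
      rw [inv_smul_smul₀ hz0]
    have hz3 : z⁻¹ ^ 3 = 1 := by
      have h' := congrArg Matrix.det hwx.1
      rw [det_units_conj, det_smul, Fintype.card_fin] at h'
      exact (mul_eq_right₀ (by rw [← Matrix.GeneralLinearGroup.val_det_apply]; exact Units.ne_zero _)).1 h'.symm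
    have hcube : Commute x.1 ((w ^ 3 : GL (Fin 3) F) : Matrix (Fin 3) (Fin 3) F) := by
      have hstep : w.1 * x.1 = z⁻¹ • (x.1 * w.1) := by
        have h' := congrArg (fun X => X * w.1) hwx.1
        simpa only [mul_assoc, Units.inv_mul, mul_one, smul_mul_assoc] using h'
      have e2 : w.1 * w.1 * x.1 = z⁻¹ ^ 2 • (x.1 * (w.1 * w.1)) := by
        rw [mul_assoc, hstep, mul_smul_comm, ← mul_assoc, hstep, smul_mul_assoc, smul_smul, mul_assoc,
          pow_two]
      have e3 : w.1 * w.1 * w.1 * x.1 = x.1 * (w.1 * w.1 * w.1) := by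
        rw [mul_assoc, hstep, mul_smul_comm, ← mul_assoc, e2, smul_mul_assoc, smul_smul,
          mul_assoc x.1, ← pow_succ', hz3, one_smul]
      show x.1 * _ = _ * x.1
      rw [Units.val_pow_eq_pow_val, pow_succ, pow_two]
      exact e3.symm
    refine exists_of_commute e (b := (c : L) ^ ((s + 1) * 3)) (pow_not_scalar e hc fun hd => ?_) ?_
    · refine h9 (s + 1) (by omega) (by have := j.2; omega) ?_
      rwa [show 9 * (s + 1) = 3 * ((s + 1) * 3) by ring]
    · rw [hw, ← pow_mul, ← map_pow] at hcube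
      rw [← Units.val_pow_eq_pow_val]
      exact hcube
  obtain ⟨u, hu⟩ := hall a haD
  obtain ⟨v, hv⟩ := hall b hbD
  exact hne (Units.ext (by rw [Units.val_mul, Units.val_mul, ← hu, ← hv, ← map_mul, ← map_mul, mul_comm]))

end CfsgLib.SLThree.Singer
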