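import Cfsg.Agent.SLThree.Singer.Count
import Cfsg.Agent.MaxSub.QuadraticBasic
import Mathlib.Algebra.CharP.Basic

/-!
# Overgroups of the Singer normaliser with transvections contain root groups

All centres on an axis have second axes, so they are at most `√q + 1`. By the counting only
`q = 16` is left, with three centres on each axis. Then the transvections with one centre act
freely on six centres of another line through it, but they form a group of order a multiple of four.
-/

set_option autoImplicit false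
set_option linter.unusedSectionVars false

namespace CfsgLib.SLThree.Singer

open Matrix Cfsg.Geo CfsgLib.MaxSub

theorem arith {q p k A B C E : ℕ} (hp : p.Prime) (hk : 2 ≤ k) (hq : q = p ^ k) (h4 : q ≠ 4)
    (h3 : 3 ∣ q - 1) (hsum : A + B + C = q + 1)
    (hsq : 3 * (A ^ 2 + B ^ 2 + C ^ 2) = q ^ 2 + 4 * q + 1) (hA : A ≤ E + 1) (hE : E * E ≤ q) :
    q = 16 ∧ A = 3 ∧ B = 7 ∧ C = 7 := by
  have h28 : q ≤ 28 := by
    by_contra hlt
    push Not at hlt
    zify at hsum hsq hA hE hlt
    have h11 : 11 * (E : ℤ) ≤ q + 30 := by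
      rcases le_or_gt (E : ℤ) 5 with h | h <;> nlinarith
    have hBC : (9 : ℤ) * A ^ 2 - 6 * (q + 1) * A + (q - 1) ^ 2 ≤ 0 := by
      nlinarith [sq_nonneg ((B : ℤ) - C)]
    nlinarith
  have hp5 : p ≤ 5 := by
    by_contra h
    push Not at h
    have : 6 ^ 2 ≤ p ^ k := le_trans (Nat.pow_le_pow_left h 2) (Nat.pow_le_pow_right hp.pos hk)
    omega
  have hk4 : k ≤ 4 := by
    by_contra h
    push Not at h
    have : 2 ^ 5 ≤ p ^ k := le_trans (Nat.pow_le_pow_left hp.two_le 5) (Nat.pow_le_pow_right hp.pos h)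
    omega
  have := hp.two_le
  have hq' : q = 16 ∨ q = 25 := by
    interval_cases p <;> interval_cases k <;> simp_all
  have hE5 : E ≤ 5 := by
    by_contra h
    have := Nat.mul_le_mul (show 6 ≤ E by omega) (show 6 ≤ E by omega)
    omega
  have key16 : ∀ a < 6, ∀ b < 18, a + b ≤ 17 →
      3 * (a ^ 2 + b ^ 2 + (17 - a - b) ^ 2) = 321 → a = 3 ∧ b = 7 := by decide +kernel
  have key25 : ∀ a < 7, ∀ b < 27, a + b ≤ 26 →
      3 * (a ^ 2 + b ^ 2 + (26 - a - b) ^ 2) ≠ 726 := by decide +kernel
  rcases hq' with rfl | rfl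
  · have hE4 : E ≤ 4 := by
      by_contra h
      have := Nat.mul_le_mul (show 5 ≤ E by omega) (show 5 ≤ E by omega)
      omega
    obtain ⟨ha, hb⟩ := key16 A (by omega) B (by omega) (by omega)
      (by rw [show 17 - A - B = C by omega]; omega)
    exact ⟨rfl, ha, hb, by omega⟩
  · exact absurd (by rw [show 26 - A - B = C by omega]; omega) (key25 A (by omega) B (by omega) (by omega))

open scoped Classical

variable {F : Type*} [Field F] [Fintype F] {L : Type*} [Field L] [Algebra F L] [Fintype L]
  (e : L ≃ₗ[F] (Fin 3 → F)) {M : Subgroup (GL (Fin 3) F)}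
  (hC : ∀ c : Lˣ, Algebra.norm F (c : L) = 1 → gl e c ∈ M)

include hC

theorem Flag.translate {x θ : L} (h : Flag M (e x) (tf e θ)) {y : L} (hy : y ≠ 0)
    (hcl : Cls (Algebra.norm F x) (Algebra.norm F y)) : ∃ η, Flag M (e y) (tf e η) := by
  have hx : x ≠ 0 := fun h0 => h.centre_ne (by rw [h0, map_zero])
  obtain ⟨t, ht, hN⟩ := hcl
  have ht' : algebraMap F L t ≠ 0 := (map_ne_zero _).2 ht
  let c : Lˣ := Units.mk0 (y / (algebraMap F L t * x)) (div_ne_zero hy (mul_ne_zero ht' hx))
  have hc : Algebra.norm F (c : L) = 1 := by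
    have h' : Algebra.norm F (c : L) * Algebra.norm F (algebraMap F L t * x) = Algebra.norm F y := by
      rw [← map_mul]
      simp [c, div_mul_cancel₀ _ (mul_ne_zero ht' hx)]
    rw [map_mul, Algebra.norm_algebraMap, finrank_eq_three e, ← hN] at h'
    exact (mul_eq_right₀ (Algebra.norm_ne_zero_iff.2 hy)).1 h'
  have h1 := (h.conj (hC c hc)).smul_centre ht
  rw [gl_mulVec, conj_tf_gl, ← map_smul, Algebra.smul_def,
    show algebraMap F L t * ((c : L) * x) = y by simp [c]; field_simp] at h1
  exact ⟨_, h1⟩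

variable (hσ : frob e ∈ M)

include hσ

/-- **Transvections in an overgroup of the Singer normaliser give root groups.** -/
theorem exists_rootIn_of_flag (h4 : Fintype.card F ≠ 4) (hnp : ¬ (Fintype.card F).Prime)
    {v a : Fin 3 → F} (hfl : Flag M v a) : ∃ v a, v ≠ 0 ∧ a ≠ 0 ∧ RootIn M v a := by
  by_contra hno
  push Not at hno
  have h7 : Fintype.card F ≠ 7 := fun h => hnp (h ▸ by norm_num)
  obtain ⟨p, hp⟩ := CharP.exists F
  obtain ⟨k, hpp, hk⟩ := FiniteField.card F p
  have hk2 : 2 ≤ (k : ℕ) := by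
    by_contra hlt
    have := k.pos
    exact hnp (by rw [hk, show (k : ℕ) = 1 by omega, pow_one]; exact hpp)
  -- the number of centres on an axis
  have key : ∀ x θ : L, Flag M (e x) (tf e θ) → Fintype.card F = 16 ∧
      (traceZero (L := L) (Algebra.norm F (θ * x))).card = 45 ∧
      ∀ m : F, m ≠ 0 → ¬ Cls (Algebra.norm F (θ * x)) m → (traceZero (L := L) m).card = 105 := by
    intro x θ h
    have hx : x ≠ 0 := fun h0 => h.centre_ne (by rw [h0, map_zero])
    have hθ : θ ≠ 0 := fun h0 => h.axis_ne (by funext j; simp [h0, tf])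
    have hn : Algebra.norm F (θ * x) ≠ 0 := Algebra.norm_ne_zero_iff.2 (mul_ne_zero hθ hx)
    obtain ⟨hov, w, hi, hw⟩ := double e hC hσ h4 h7 h
    rcases slopes hi h hw hov (double e hC hσ h4 h7 hw).1 with hr | ⟨E, l, hE, hl, -, hsl⟩
    · exact absurd hr (hno _ _ h.centre_ne h.axis_ne)
    have hpt : ∀ d ∈ traceZero (L := L) (Algebra.norm F (θ * x)),
        Other M (e (d / θ)) (tf e θ) ∧ ∃ r s : F, r • e x + s • e w = e (d / θ) := by
      intro d hd
      obtain ⟨⟨hd0, hcl⟩, ht⟩ := mem_traceZero.1 hd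
      have hcl' : Cls (Algebra.norm F x) (Algebra.norm F (d / θ)) := by
        refine Cls.cancel_left (Algebra.norm_ne_zero_iff.2 hθ) ?_
        rwa [← map_mul, ← map_mul, mul_div_cancel₀ _ hθ]
      obtain ⟨η, hη⟩ := Flag.translate e hC h (div_ne_zero hd0 hθ) hcl'
      have h0 : tf e θ ⬝ᵥ e (d / θ) = 0 := by rw [tf_dot, mul_div_cancel₀ _ hθ, ht]
      refine ⟨(double e hC hσ h4 h7 (h.spread hη h0)).1, exists_combination hi h.axis_ne
        (by rw [dotProduct_comm]; exact h.dot) (by rw [dotProduct_comm]; exact hw.dot)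
        (by rw [dotProduct_comm]; exact h0)⟩
    have hco : ∀ d : L, ∃ rs : F × F, d ∈ traceZero (L := L) (Algebra.norm F (θ * x)) →
        rs.1 • e x + rs.2 • e w = e (d / θ) := fun d => by
      by_cases hd : d ∈ traceZero (L := L) (Algebra.norm F (θ * x))
      · obtain ⟨r, s, hrs⟩ := (hpt d hd).2; exact ⟨(r, s), fun _ => hrs⟩
      · exact ⟨0, fun h' => absurd h' hd⟩
    choose co hco using hco
    let φ : L → F × Option F := fun d =>
      if (co d).1 = 0 then ((co d).2, none) else ((co d).1, some (l * ((co d).2 / (co d).1)))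
    have hcard : (traceZero (L := L) (Algebra.norm F (θ * x))).card ≤
        (Fintype.card F - 1) * (Nat.card E + 1) := by
      have hto : ((Finset.univ : Finset F).erase 0 ×ˢ
          insert none ((Finset.univ.filter fun z : F => z ∈ E).image some)).card =
          (Fintype.card F - 1) * (Nat.card E + 1) := by
        rw [Finset.card_product, Finset.card_erase_of_mem (Finset.mem_univ _), Finset.card_univ,
          Finset.card_insert_of_notMem (by simp), Finset.card_image_of_injective _ (Option.some_injective _),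
          Nat.card_eq_fintype_card, ← Fintype.card_subtype]
      rw [← hto]
      refine Finset.card_le_card_of_injOn φ (fun d hd => ?_) (fun d hd d' hd' he => ?_)
      · obtain ⟨⟨hd0, -⟩, -⟩ := mem_traceZero.1 hd
        have hne : e (d / θ) ≠ 0 := fun h0 => div_ne_zero hd0 hθ (e.injective (by rw [h0, map_zero]))
        simp only [φ, Finset.mem_coe, Finset.mem_product, Finset.mem_insert, Finset.mem_image,
          Finset.mem_filter, Finset.mem_univ, true_and, Finset.mem_erase, and_true]
        split_ifs with hr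
        · exact ⟨fun hs => hne (by rw [← hco d hd, hr, show (co d).2 = 0 from hs, zero_smul, zero_smul, add_zero]), Or.inl rfl⟩
        · refine ⟨hr, Or.inr ⟨_, hsl _ ?_, rfl⟩⟩
          have h' := (hpt d hd).1
          rw [← hco d hd] at h'
          have h'' := (show Other M _ (tf e θ) from
            let ⟨q, hq1, hq2⟩ := h'; ⟨q, hq1, hq2.smul_centre (inv_ne_zero hr)⟩ :
            Other M ((co d).1⁻¹ • ((co d).1 • e x + (co d).2 • e w)) (tf e θ))
          rwa [smul_add, inv_smul_smul₀ hr, smul_smul, mul_comm, ← div_eq_mul_inv] at h''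
      · have hrs : co d = co d' := by
          simp only [φ] at he
          split_ifs at he with h1 h2 h2 <;> simp only [Prod.mk.injEq, Option.some.injEq, reduceCtorEq, and_false] at he
          · exact Prod.ext (h1.trans h2.symm) he.1
          · refine Prod.ext he.1 ?_
            have h3 := mul_left_cancel₀ hl he.2
            rw [← he.1] at h3
            exact (div_left_inj' h1).1 h3
        have he' := e.injective ((hco d hd).symm.trans (hrs ▸ hco d' hd'))
        exact (div_left_inj' hθ).1 he'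
    have hEq : Nat.card E * Nat.card E ≤ Fintype.card F := by
      have := sq_card_subfield_le hE
      rwa [pow_two, Nat.card_eq_fintype_card (α := F)] at this
    by_cases h3 : 3 ∣ Fintype.card F - 1
    · obtain ⟨g, hg, h1, h2, hall⟩ := exists_noncube h3
      obtain ⟨A, B, C, hA, hB, hC', hsum, hsq⟩ := moments e hg h1 h2 hall hn
      have hAle : A ≤ Nat.card E + 1 := by
        rw [hA] at hcard
        exact Nat.le_of_mul_le_mul_left hcard (by have := Fintype.one_lt_card (α := F); omega)
      obtain ⟨hq, rfl, rfl, rfl⟩ := arith hpp hk2 hk h4 h3 hsum hsq hAle hEq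
      refine ⟨hq, by rw [hA, hq], fun m hm hne => ?_⟩
      rcases hall (m / Algebra.norm F (θ * x)) (div_ne_zero hm hn) with h' | h' | h' <;>
        have h'' := h'.mul_left (Algebra.norm F (θ * x)) <;> rw [mul_div_cancel₀ _ hn] at h''
      · exact absurd (by simpa using h'') hne
      · rw [← traceZero_congr h'', hB, hq]
      · rw [← traceZero_congr h'', hC', hq]
    · exfalso
      have hco' : (Nat.card Fˣ).Coprime 3 := by
        rw [Nat.card_units, Nat.card_eq_fintype_card]
        exact ((Nat.Prime.coprime_iff_not_dvd Nat.prime_three).2 h3).symm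
      have hall : traceZero (L := L) (Algebra.norm F (θ * x)) =
          ((Finset.univ : Finset L).filter fun d => Algebra.trace F L d = 0).erase 0 := by
        ext d
        simp only [mem_traceZero, Finset.mem_erase, Finset.mem_filter, Finset.mem_univ, true_and]
        refine ⟨fun h => ⟨h.1.1, h.2⟩, fun h => ⟨⟨h.1, ?_⟩, h.2⟩⟩
        obtain ⟨t, ht⟩ := (powCoprime hco').surjective
          (Units.mk0 (Algebra.norm F d / Algebra.norm F (θ * x)) (div_ne_zero (Algebra.norm_ne_zero_iff.2 h.1) hn))
        refine ⟨(t : F), t.ne_zero, ?_⟩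
        have := congrArg Units.val ht
        simp only [powCoprime_apply, Units.val_pow_eq_pow_val, Units.val_mk0] at this
        rw [this, div_mul_cancel₀ _ hn]
      rw [hall, Finset.card_erase_of_mem (by simp), card_trace_eq_zero e] at hcard
      obtain ⟨Q, hQ⟩ : ∃ Q, Fintype.card F = Q + 2 :=
        ⟨Fintype.card F - 2, by have := Fintype.one_lt_card (α := F); omega⟩
      rw [hQ] at hcard hEq
      have e1 : (Q + 2) ^ 2 - 1 = (Q + 2 - 1) * (Q + 3) := by
        have : (Q + 2) ^ 2 = (Q + 1) * (Q + 3) + 1 := by ring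
        rw [show Q + 2 - 1 = Q + 1 from rfl]
        omega
      rw [e1] at hcard
      have hle : Q + 3 ≤ Nat.card E + 1 := Nat.le_of_mul_le_mul_left hcard (by omega)
      have := Nat.mul_le_mul (show Q + 2 ≤ Nat.card E by omega) (show 2 ≤ Nat.card E by omega)
      omega
  obtain ⟨x, rfl⟩ := e.surjective v
  obtain ⟨θ, rfl⟩ := tf_surjective e a
  obtain ⟨hq, hT, hother⟩ := key x θ hfl
  have hx : x ≠ 0 := fun h0 => hfl.centre_ne (by rw [h0, map_zero])
  have hθ : θ ≠ 0 := fun h0 => hfl.axis_ne (by funext j; simp [h0, tf])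
  set n := Algebra.norm F (θ * x) with hn
  have hn0 : n ≠ 0 := Algebra.norm_ne_zero_iff.2 (mul_ne_zero hθ hx)
  have hflag : ∀ x' θ', Flag M (e x') (tf e θ') → Cls n (Algebra.norm F (θ' * x')) := by
    intro x' θ' h
    by_contra hne
    have h1 := (key x' θ' h).2.1
    rw [hother _ (fun h0 => by
      rw [Algebra.norm_eq_zero_iff] at h0
      rcases mul_eq_zero.1 h0 with h0 | h0
      · exact h.axis_ne (by funext j; simp [h0, tf])
      · exact h.centre_ne (by rw [h0, map_zero])) hne] at h1
    omega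
  -- all centres are in one class
  have hclass : ∀ x' θ', Flag M (e x') (tf e θ') → Cls (Algebra.norm F x) (Algebra.norm F x') := by
    intro x' θ' h
    have hx' : x' ≠ 0 := fun h0 => h.centre_ne (by rw [h0, map_zero])
    have hm : Algebra.norm F (θ * x') ≠ 0 := Algebra.norm_ne_zero_iff.2 (mul_ne_zero hθ hx')
    by_contra hne
    have hne' : ¬ Cls n (Algebra.norm F (θ * x')) := fun hc => hne (by
      rw [hn, map_mul, map_mul] at hc
      exact hc.cancel_left (Algebra.norm_ne_zero_iff.2 hθ))
    obtain ⟨d, hd⟩ := Finset.card_pos.1 (by rw [hother _ hm hne']; norm_num :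
      0 < (traceZero (L := L) (Algebra.norm F (θ * x'))).card)
    obtain ⟨⟨hd0, hcl⟩, ht⟩ := mem_traceZero.1 hd
    obtain ⟨η, hη⟩ := Flag.translate e hC h (div_ne_zero hd0 hθ) (Cls.cancel_left (Algebra.norm_ne_zero_iff.2 hθ)
      (by rwa [← map_mul, ← map_mul, mul_div_cancel₀ _ hθ]))
    have h3 := hflag _ _ (hfl.spread hη (by rw [tf_dot, mul_div_cancel₀ _ hθ, ht]))
    rw [mul_div_cancel₀ _ hθ] at h3
    exact hne' (h3.trans hcl.symm)
  -- a line through the centre that is no axis
  obtain ⟨g, hg, hg1, -, -⟩ := exists_noncube (F := F) (by rw [hq]; norm_num)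
  have hng : ¬ Cls n (n * g) := fun h => hg1 (Cls.cancel_left hn0 (by simpa using h))
  obtain ⟨d₀, hd₀⟩ := Finset.card_pos.1 (by rw [hother _ (mul_ne_zero hn0 hg) hng]; norm_num :
      0 < (traceZero (L := L) (n * g)).card)
  obtain ⟨⟨hd₀0, hd₀c⟩, hd₀t⟩ := mem_traceZero.1 hd₀
  set η := d₀ / x with hη
  have hηx : η * x = d₀ := div_mul_cancel₀ _ hx
  have hη0 : η ≠ 0 := div_ne_zero hd₀0 hx
  have hηt : tf e η ⬝ᵥ e x = 0 := by rw [tf_dot, hηx, hd₀t]
  obtain ⟨z, hz, hzx⟩ : ∃ z ∈ dotsKer ![tf e η], z ∉ Submodule.span F {e x} := by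
    by_contra hcon
    push Not at hcon
    have h1 := Submodule.finrank_mono (hcon : dotsKer ![tf e η] ≤ Submodule.span F {e x})
    have h3 := finrank_dotsKer ![tf e η]
    rw [finrank_span_singleton hfl.centre_ne] at h1
    simp only [Fintype.card_fin] at h3
    omega
  obtain ⟨y₀, rfl⟩ := e.surjective z
  have hzt : tf e η ⬝ᵥ e y₀ = 0 := by simpa using mem_dotsKer.1 hz 0
  have hiz : Indep (e x) (e y₀) := (indep_or_smul hfl.centre_ne _).resolve_right fun ⟨c, hc⟩ =>
    hzx (Submodule.mem_span_singleton.2 ⟨c, hc⟩)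
  let R₁ := (Finset.univ : Finset F).filter fun r =>
    Cls (Algebra.norm F x) (Algebra.norm F (y₀ + r • x))
  have hsm : ∀ (c : F) (y : L), c ≠ 0 →
      (Cls (Algebra.norm F x) (Algebra.norm F (c • y)) ↔ Cls (Algebra.norm F x) (Algebra.norm F y)) := by
    intro c y hc
    have hcl : Cls (Algebra.norm F y) (Algebra.norm F (c • y)) :=
      ⟨c, hc, by rw [Algebra.smul_def, map_mul, Algebra.norm_algebraMap, finrank_eq_three e]⟩
    exact ⟨fun h => h.trans hcl.symm, fun h => h.trans hcl⟩
  -- the centres of that line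
  have hR : R₁.card = 6 := by
    have hT' := hother _ (mul_ne_zero hn0 hg) hng
    have himg : traceZero (L := L) (n * g) =
        ((Finset.univ : Finset F).erase 0).image (fun r : F => η * (r • x)) ∪
        (((Finset.univ : Finset F).erase 0) ×ˢ R₁).image (fun sr : F × F => η * (sr.1 • (y₀ + sr.2 • x))) := by
      ext d
      simp only [Finset.mem_union, Finset.mem_image, Finset.mem_erase, Finset.mem_univ, and_true,
        Finset.mem_product, R₁, Finset.mem_filter, true_and]
      constructor
      · intro hd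
        obtain ⟨⟨hd0, hdc⟩, hdt⟩ := mem_traceZero.1 hd
        have hcl : Cls (Algebra.norm F x) (Algebra.norm F (d / η)) :=
          Cls.cancel_left (Algebra.norm_ne_zero_iff.2 hη0) (by
            rw [← map_mul, ← map_mul, mul_div_cancel₀ _ hη0, hηx]; exact hd₀c.symm.trans hdc)
        obtain ⟨r, s, hrs⟩ := exists_combination hiz (v := tf e η)
          (fun (h0 : tf e η = 0) => hη0 (tf_injective e (by rw [h0]; funext j; simp [tf])))
          (by rw [dotProduct_comm]; exact hηt) (by rw [dotProduct_comm]; exact hzt)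
          (x := e (d / η)) (by rw [dotProduct_comm, tf_dot, mul_div_cancel₀ _ hη0, hdt])
        rw [← map_smul, ← map_smul, ← map_add] at hrs
        have hy := e.injective hrs
        by_cases hs : s = 0
        · rw [hs, zero_smul, add_zero] at hy
          refine Or.inl ⟨r, fun hr => ?_, by rw [hy, mul_div_cancel₀ _ hη0]⟩
          rw [hr, zero_smul] at hy
          exact div_ne_zero hd0 hη0 hy.symm
        · have hy' : s • (y₀ + (r / s) • x) = d / η := by
            rw [smul_add, smul_smul, mul_div_cancel₀ _ hs, add_comm, hy]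
          exact Or.inr ⟨(s, r / s), ⟨hs, (hsm s _ hs).1 (by rw [hy']; exact hcl)⟩,
            by rw [hy', mul_div_cancel₀ _ hη0]⟩
      · have hmem : ∀ y : L, y ≠ 0 → tf e η ⬝ᵥ e y = 0 → Cls (Algebra.norm F x) (Algebra.norm F y) →
            η * y ∈ traceZero (L := L) (n * g) := fun y hy0 hyt hyc => by
          refine mem_traceZero.2 ⟨⟨mul_ne_zero hη0 hy0, hd₀c.trans ?_⟩, by rw [← tf_dot e]; exact hyt⟩
          rw [← hηx, map_mul, map_mul]
          exact hyc.mul_left _
        rintro (⟨r, hr, rfl⟩ | ⟨⟨s, r⟩, ⟨hs, hr⟩, rfl⟩)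
        · exact hmem _ (smul_ne_zero hr hx) (by rw [map_smul, dotProduct_smul, hηt, smul_zero])
            ((hsm r x hr).2 (Cls.refl _))
        · refine hmem _ (smul_ne_zero hs fun h0 => one_ne_zero (hiz r 1 ?_).2) ?_ ((hsm s _ hs).2 hr)
          · rw [← map_smul, ← map_smul, ← map_add, one_smul, add_comm, h0, map_zero]
          · rw [map_smul, map_add, map_smul, dotProduct_smul, dotProduct_add, dotProduct_smul, hzt, hηt,
              smul_zero, add_zero, smul_zero]
    have hinj : ∀ s r s' r' : F, η * (s • y₀ + r • x) = η * (s' • y₀ + r' • x) → s = s' ∧ r = r' := by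
      intro s r s' r' h
      have h' := congrArg e (mul_left_cancel₀ hη0 h)
      simp only [map_add, map_smul] at h'
      obtain ⟨a1, a2⟩ := hiz (r - r') (s - s') (by
        rw [sub_smul, sub_smul, ← sub_eq_zero.2 h']
        abel)
      exact ⟨sub_eq_zero.1 a2, sub_eq_zero.1 a1⟩
    rw [himg, Finset.card_union_of_disjoint, Finset.card_image_of_injective,
      Finset.card_image_of_injOn, Finset.card_product, Finset.card_erase_of_mem (Finset.mem_univ _),
      Finset.card_univ, hq] at hT'
    · omega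
    · rintro ⟨s, r⟩ h1 ⟨s', r'⟩ h2 h
      simp only [smul_add, smul_smul] at h
      obtain ⟨rfl, h3⟩ := hinj _ _ _ _ h
      have hs : s ≠ 0 := (Finset.mem_erase.1 (Finset.mem_product.1 h1).1).1
      rw [mul_left_cancel₀ hs h3]
    · intro r r' h
      have := hinj 0 r 0 r' (by simpa using h)
      exact this.2
    · rw [Finset.disjoint_left]
      intro d hd hd'
      obtain ⟨r, hr, rfl⟩ := Finset.mem_image.1 hd
      obtain ⟨⟨s, r'⟩, hsr, h⟩ := Finset.mem_image.1 hd'
      have hs : s ≠ 0 := (Finset.mem_erase.1 (Finset.mem_product.1 hsr).1).1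
      simp only [smul_add, smul_smul] at h
      exact hs (hinj s (s * r') 0 r (by simpa using h)).1
  -- the group of transvections with centre `x`
  let A : AddSubgroup L :=
    { carrier := {t | Algebra.trace F L (t * x) = 0 ∧ tv (e x) (tf e t) ∈ M}
      zero_mem' := ⟨by simp, by
        rw [show tf e (0 : L) = 0 by funext j; simp [tf], tv_zero_right]; exact M.one_mem⟩
      add_mem' := fun {s t} hs ht => ⟨by rw [add_mul, map_add, hs.1, ht.1, add_zero], by
        rw [show tf e (s + t) = tf e s + tf e t by funext j; simp [tf, add_mul]]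
        exact tv_mem_add_right (by rw [tf_dot, hs.1]) (by rw [tf_dot, ht.1]) hs.2 ht.2⟩
      neg_mem' := fun {s} hs => ⟨by rw [neg_mul, map_neg, hs.1, neg_zero], by
        rw [show tf e (-s) = -tf e s by funext j; simp [tf], tv_neg_right, ← tv_inv]
        exact M.inv_mem hs.2⟩ }
  let T : L →+ F := (Algebra.trace F L).toAddMonoidHom.comp (AddMonoidHom.mulRight y₀)
  have hTapply : ∀ t, T t = Algebra.trace F L (t * y₀) := fun t => rfl
  have hTinj : ∀ t ∈ A, T t = 0 → t = 0 := by
    intro t ht hT0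
    by_contra ht0
    have hfl' : Flag M (e x) (tf e t) := flag_of_tv (by rw [tf_dot, ht.1]) hfl.centre_ne
      (fun h0 => ht0 (tf_injective e (by rw [h0]; funext j; simp [tf]))) ht.2
    obtain ⟨c, hc⟩ := exists_smul_of_dot hiz (fun (h0 : tf e η = 0) => hη0 (tf_injective e (by rw [h0]; funext j; simp [tf])))
      (by rw [dotProduct_comm]; exact hηt) (by rw [dotProduct_comm]; exact hzt)
      (w := tf e t) (by rw [dotProduct_comm, tf_dot, ht.1]) (by rw [dotProduct_comm, tf_dot, ← hTapply, hT0])
    have hc0 : c ≠ 0 := fun h0 => hfl'.axis_ne (by rw [← hc, h0, zero_smul])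
    have ht' : t = algebraMap F L c * η := tf_injective e (by rw [← hc, tf_smul])
    have h1 := hflag _ _ hfl'
    rw [ht', mul_assoc, hηx] at h1
    refine hng (h1.trans ?_)
    have hcl : Cls (Algebra.norm F d₀) (Algebra.norm F (algebraMap F L c * d₀)) :=
      ⟨c, hc0, by rw [map_mul, Algebra.norm_algebraMap, finrank_eq_three e]⟩
    exact hcl.symm.trans hd₀c.symm
  set K := A.map T with hK
  have hR1 : ∀ r ∈ R₁, ∀ k ∈ K, r + k ∈ R₁ := by
    rintro r hr _ ⟨t, ht, rfl⟩
    simp only [R₁, Finset.mem_filter, Finset.mem_univ, true_and] at hr ⊢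
    have hy : y₀ + r • x ≠ 0 := fun h0 => one_ne_zero (hiz r 1 (by
      rw [← map_smul, ← map_smul, ← map_add, one_smul, add_comm, h0, map_zero])).2
    obtain ⟨ζ, hζ⟩ := Flag.translate e hC hfl hy hr
    have h1 := hζ.conj ht.2
    rw [tv_mulVec (by rw [tf_dot, ht.1]), tf_dot,
      show Algebra.trace F L (t * (y₀ + r • x)) = T t by
        rw [mul_add, map_add, mul_smul_comm, map_smul, ht.1, smul_zero, add_zero]; rfl] at h1
    obtain ⟨ξ, hξ⟩ := tf_surjective e (tf e ζ ᵥ* (((tv (e x) (tf e t))⁻¹ : GL (Fin 3) F) : Matrix (Fin 3) (Fin 3) F))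
    rw [← hξ, ← map_smul, ← map_add, add_assoc, ← add_smul] at h1
    exact hclass _ _ h1
  have hdvd : Nat.card K ∣ R₁.card := by
    have hpre : (QuotientAddGroup.mk : F → F ⧸ K) ⁻¹' (QuotientAddGroup.mk '' (R₁ : Set F)) = (R₁ : Set F) := by
      refine Set.Subset.antisymm ?_ (Set.subset_preimage_image _ _)
      rintro r ⟨r', hr', h⟩
      have := hR1 r' hr' _ (QuotientAddGroup.eq.1 h)
      rwa [add_neg_cancel_left] at this
    rw [← Nat.card_eq_finsetCard]
    change Nat.card K ∣ Nat.card (R₁ : Set F)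
    rw [← hpre, Nat.card_congr (QuotientAddGroup.preimageMkEquivAddSubgroupProdSet K _), Nat.card_prod]
    exact dvd_mul_right _ _
  have h16 : Nat.card K ∣ 16 := by
    rw [← hq, ← Nat.card_eq_fintype_card]; exact AddSubgroup.card_addSubgroup_dvd_card K
  have h4le : 4 ≤ Nat.card K := by
    obtain ⟨d, hi, hd⟩ := (double e hC hσ h4 h7 hfl).1
    obtain ⟨θ₂, rfl⟩ := tf_surjective e d
    obtain ⟨-, -, -, s₁, hs₁, hm₁⟩ := id hfl
    obtain ⟨-, -, -, s₂, hs₂, hm₂⟩ := id hd
    have m1 : algebraMap F L s₁ * θ ∈ A := ⟨by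
        rw [mul_assoc, ← Algebra.smul_def, map_smul, ← tf_dot e, hfl.dot, smul_zero],
      by rw [tf_smul, tv_smul_right]; exact hm₁⟩
    have m2 : algebraMap F L s₂ * θ₂ ∈ A := ⟨by
        rw [mul_assoc, ← Algebra.smul_def, map_smul, ← tf_dot e, hd.dot, smul_zero],
      by rw [tf_smul, tv_smul_right]; exact hm₂⟩
    have h2 : ∀ r₁ r₂ : F, T (algebraMap F L r₁ * θ + algebraMap F L r₂ * θ₂) = 0 →
        algebraMap F L r₁ * θ + algebraMap F L r₂ * θ₂ ∈ A → r₁ = 0 ∧ r₂ = 0 := by
      intro r₁ r₂ hT0 hmem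
      have h0 := hTinj _ hmem hT0
      refine hi r₁ r₂ ?_
      have h3 := congrArg (tf e) h0
      rw [show tf e (algebraMap F L r₁ * θ + algebraMap F L r₂ * θ₂) =
        tf e (algebraMap F L r₁ * θ) + tf e (algebraMap F L r₂ * θ₂) by funext j; simp [tf, add_mul],
        tf_smul, tf_smul] at h3
      rw [h3]
      funext j
      simp [tf]
    set k₁ := T (algebraMap F L s₁ * θ)
    set k₂ := T (algebraMap F L s₂ * θ₂)
    have hk1 : k₁ ∈ K := AddSubgroup.mem_map_of_mem T m1
    have hk2 : k₂ ∈ K := AddSubgroup.mem_map_of_mem T m2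
    have n1 : k₁ ≠ 0 := fun h => hs₁ (h2 s₁ 0 (by simpa using h) (by simpa using m1)).1
    have n2 : k₂ ≠ 0 := fun h => hs₂ (h2 0 s₂ (by simpa using h) (by simpa using m2)).2
    have n3 : k₁ + k₂ ≠ 0 := fun h => hs₁ (h2 s₁ s₂ (by rw [map_add]; exact h) (A.add_mem m1 m2)).1
    have n4 : k₁ ≠ k₂ := fun h => hs₁ (h2 s₁ (-s₂) (by
        rw [map_add, map_neg, neg_mul, map_neg]
        exact add_neg_eq_zero.2 h) (by
        rw [map_neg, neg_mul]; exact A.add_mem m1 (A.neg_mem m2))).1
    have hsub : ({0, k₁, k₂, k₁ + k₂} : Finset F) ⊆ (Finset.univ.filter fun r => r ∈ K) := by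
      intro r hr
      simp only [Finset.mem_insert, Finset.mem_singleton] at hr
      simp only [Finset.mem_filter, Finset.mem_univ, true_and]
      rcases hr with rfl | rfl | rfl | rfl
      exacts [K.zero_mem, hk1, hk2, K.add_mem hk1 hk2]
    have hc := Finset.card_le_card hsub
    rw [Finset.card_insert_of_notMem (by simp [n1.symm, n2.symm, n3.symm]),
      Finset.card_insert_of_notMem (by simp [n4, n2]), Finset.card_pair (by simp [n1]),
      ← Fintype.card_subtype, ← Nat.card_eq_fintype_card] at hc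
    exact hc
  rw [hR] at hdvd
  have h2 : Nat.card K ∣ Nat.gcd 6 16 := Nat.dvd_gcd hdvd h16
  rw [show Nat.gcd 6 16 = 2 by norm_num] at h2
  have := Nat.le_of_dvd (by norm_num) h2
  omega

end CfsgLib.SLThree.Singer
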