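import Cfsg.Agent.SLThree.Singer.Flags
import Cfsg.Agent.SLThree.Singer.Slopes
import Cfsg.Agent.SLThree.Singer.Odd
import Cfsg.Agent.SLThree.Subfield
import Cfsg.Agent.ExtField.Bridge

/-!
# The normaliser of a field of degree three is maximal in `SL₃ (q)`, `q ≠ 4`
-/

set_option autoImplicit false

namespace CfsgLib.SLThree.Singer

open Matrix Cfsg.Geo CfsgLib.MaxSub

variable {F : Type*} [Field F] [Fintype F]

section
variable {L : Type*} [Field L] [Algebra F L] [Finite L] (e : L ≃ₗ[F] (Fin 3 → F))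

local notation "σ" => (sg (F := F) : L ≃ₐ[F] L)

theorem normalises_frob : Normalises e (frob e) := by
  intro a
  refine ⟨σ a, ?_⟩
  rw [Units.mul_inv_eq_iff_eq_mul]
  refine Matrix.ext_of_mulVec_single fun i => ?_
  obtain ⟨x, hx⟩ := e.surjective (Pi.single i 1)
  rw [← hx, ← mulVec_mulVec, ← mulVec_mulVec, frob_mulVec, mat_mulVec, frob_mulVec, mat_mulVec, map_mul]

theorem normalises_gl (c : Lˣ) : Normalises e (gl e c) := fun a =>
  ⟨a, by
    rw [← map_inv]
    show mat e c * mat e a * mat e ((c⁻¹ : Lˣ) : L) = _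
    rw [← map_mul, ← map_mul, mul_right_comm, Units.mul_inv, one_mul]⟩

/-- Some transvection does not normalise the field. -/
theorem exists_not_normalises : ∃ t ∈ specialLinear (Fin 3) F, ¬ Normalises e t := by
  have hva : (Pi.single 1 1 : Fin 3 → F) ⬝ᵥ Pi.single 0 1 = 0 := by simp
  refine ⟨tv (Pi.single 0 1) (Pi.single 1 1), tv_mem_specialLinear _ _, fun hn => ?_⟩
  set v : Fin 3 → F := Pi.single 0 1 with hv
  set a : Fin 3 → F := Pi.single 1 1 with ha
  set t := tv v a with ht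
  have hfix : ∀ {x : Fin 3 → F}, a ⬝ᵥ x = 0 → (t : Matrix (Fin 3) (Fin 3) F) *ᵥ x = x := fun {x} hx => by
    rw [ht, tv_mulVec hva, hx, zero_smul, add_zero]
  have hinj : ∀ {b : L} {x : Fin 3 → F}, x ≠ 0 → mat e b *ᵥ x = 0 → b = 0 := fun {b x} hx h => by
    obtain ⟨y, rfl⟩ := e.surjective x
    rw [mat_mulVec, LinearEquiv.map_eq_zero_iff] at h
    exact (mul_eq_zero.1 h).resolve_right fun h' => hx (by rw [h', map_zero])
  have hcomm : ∀ k, Commute (t : Matrix (Fin 3) (Fin 3) F) (mat e k) := by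
    intro k
    obtain ⟨k', hk'⟩ := hn k
    have hker : ∃ x : Fin 3 → F, x ≠ 0 ∧ a ⬝ᵥ x = 0 ∧ a ⬝ᵥ (mat e k *ᵥ x) = 0 := by
      let T : (Fin 3 → F) →ₗ[F] F × F :=
        ((LinearMap.proj 1).prod ((LinearMap.proj 1).comp (mulVecLin (mat e k))))
      obtain ⟨x, hxm, hx0⟩ := Submodule.exists_mem_ne_zero_of_ne_bot
        (LinearMap.ker_ne_bot_of_finrank_lt (f := T) (by simp))
      have h := Prod.ext_iff.1 (LinearMap.mem_ker.1 hxm)
      refine ⟨x, hx0, ?_, ?_⟩
      · rw [ha, single_dotProduct, one_mul]; exact h.1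
      · rw [ha, single_dotProduct, one_mul]; exact h.2
    obtain ⟨x, hx0, hx1, hx2⟩ := hker
    have hti : ((t⁻¹ : GL (Fin 3) F) : Matrix (Fin 3) (Fin 3) F) *ᵥ x = x := by
      conv_lhs => rw [← hfix hx1]
      rw [mulVec_mulVec, Units.inv_mul, one_mulVec]
    have he : k = k' := sub_eq_zero.1 (hinj hx0 (by
      rw [map_sub, sub_mulVec, ← hk', ← mulVec_mulVec, hti, ← mulVec_mulVec, hfix hx2, sub_self]))
    rw [← he] at hk'
    exact (Units.mul_inv_eq_iff_eq_mul t).1 hk'
  obtain ⟨c, hc, ho⟩ := exists_generator e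
  obtain ⟨u, hu⟩ := exists_of_commute e (b := (c : L)) (not_scalar_gen e hc ho) (hcomm c)
  have h2 : (Pi.single 2 1 : Fin 3 → F) ≠ 0 := by simp
  have hu1 : u = 1 := sub_eq_zero.1 (hinj h2 (by
    rw [map_sub, map_one, hu, sub_mulVec, one_mulVec, hfix (by simp [ha]), sub_self]))
  refine tv_ne_one hva (by simp [hv]) (by simp [ha]) (Units.ext ?_)
  rw [← ht, ← hu, hu1, map_one, Units.val_one]

/-- An overgroup with an element not normalising the field is everything. -/
theorem specialLinear_le_of_singer (h4 : Fintype.card F ≠ 4) {M : Subgroup (GL (Fin 3) F)}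
    (hC : ∀ c : Lˣ, Algebra.norm F (c : L) = 1 → gl e c ∈ M) (hσ : frob e ∈ M)
    (hSL : M ≤ specialLinear (Fin 3) F) {g : GL (Fin 3) F} (hg : g ∈ M) (hgn : ¬ Normalises e g) :
    specialLinear (Fin 3) F ≤ M := by
  classical
  have := Fintype.ofFinite L
  have hirr := irreducible_of_singer e hC
  obtain ⟨c, hc, ho⟩ := exists_generator e
  have heven : 2 ∣ Nat.card M := by
    by_contra h
    exact hgn (normalises_of_odd e hc ho (hC c hc) hirr hSL
      (Nat.not_even_iff_odd.1 fun h' => h (even_iff_two_dvd.1 h')) h4 g hg)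
  obtain ⟨⟨y, hy⟩, hy2⟩ := exists_prime_orderOf_dvd_card' 2 heven
  rw [Subgroup.orderOf_mk] at hy2
  have hy1 : y ≠ 1 := fun h => by simp [h] at hy2
  have hyy : y * y = 1 := by rw [← pow_two, ← hy2]; exact pow_orderOf_eq_one y
  obtain ⟨v, a, hfl⟩ : ∃ v a, Flag M v a := by
    by_cases h2 : (2 : F) = 0
    · obtain ⟨P, hP⟩ := exists_conj_of_involution h2 hyy hy1
      rw [el, conj_tv] at hP
      have hdot : (Pi.single 2 1 : Fin 3 → F) ⬝ᵥ Pi.single 0 1 = 0 := by simp
      refine ⟨_, _, flag_of_tv (by rw [dot_conj, hdot]) ?_ ?_ (hP ▸ hy)⟩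
      · intro h
        have := congrArg (fun u => ((P⁻¹ : GL (Fin 3) F) : Matrix (Fin 3) (Fin 3) F) *ᵥ u) h
        simp only [mulVec_mulVec, Units.inv_mul, one_mulVec, mulVec_zero] at this
        simpa using congrFun this 0
      · intro h
        have := congrArg (fun u => u ᵥ* (P : Matrix (Fin 3) (Fin 3) F)) h
        simp only [vecMul_vecMul, Units.inv_mul, vecMul_one, zero_vecMul] at this
        simpa using congrFun this 2
    · obtain ⟨v, f, hh⟩ := exists_hom h2 hy (hSL hy) hyy hy1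
      exact exists_flag_of_hom e hC hσ h2 hh
  obtain ⟨v, a, hv, ha, h⟩ : ∃ v a, v ≠ 0 ∧ a ≠ 0 ∧ RootIn M v a := by
    by_cases hp : (Fintype.card F).Prime
    · haveI := Fact.mk hp
      exact ⟨v, a, hfl.centre_ne, hfl.axis_ne, hfl.rootIn_of_prime rfl⟩
    · exact exists_rootIn_of_flag e hC hσ h4 hp hfl
  exact specialLinear_le_of_rootIn hirr hv ha h

end

/-- **The normaliser of a field of degree three is maximal in `SL₃ (q)` for `q ≠ 4`.** -/
theorem isMaximalIn_singer₃ (h4 : Fintype.card F ≠ 4) {K : Subalgebra F (Matrix (Fin 3) (Fin 3) F)}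
    (hK : IsFieldSubalgebra 3 K) :
    IsMaximalIn (specialLinear (Fin 3) F) (subalgebraNormalizer K ⊓ specialLinear (Fin 3) F) := by
  letI : Field K := (ExtField.isField_subalgebra hK).toField
  haveI : Finite K := Subtype.finite
  let T : K →ₗ[F] (Fin 3 → F) :=
    { toFun := fun k => (k : Matrix (Fin 3) (Fin 3) F) *ᵥ Pi.single 0 1
      map_add' := fun x y => by simp only [Subalgebra.coe_add, add_mulVec]
      map_smul' := fun r x => by simp only [Subalgebra.coe_smul, smul_mulVec, RingHom.id_apply] }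
  have hT : Function.Injective T := by
    rw [← LinearMap.ker_eq_bot, Submodule.eq_bot_iff]
    intro k hk
    by_contra hk0
    obtain ⟨y, -, hy⟩ := hK.inv k k.2 fun h => hk0 (Subtype.ext h)
    have hk' : (k : Matrix (Fin 3) (Fin 3) F) *ᵥ Pi.single 0 1 = 0 := LinearMap.mem_ker.1 hk
    have := congrArg (fun u => y *ᵥ u) hk'
    simp only [mulVec_mulVec, mulVec_zero, mul_eq_one_comm.1 hy, one_mulVec] at this
    simpa using congrFun this 0
  let e : K ≃ₗ[F] (Fin 3 → F) := LinearEquiv.ofBijective T ⟨hT,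
    (LinearMap.injective_iff_surjective_of_finrank_eq_finrank
      (by rw [hK.finrank_eq, Module.finrank_fin_fun])).1 hT⟩
  have hmat : ∀ k : K, mat e k = (k : Matrix (Fin 3) (Fin 3) F) := by
    intro k
    refine Matrix.ext_of_mulVec_single fun i => ?_
    obtain ⟨x, hx⟩ := e.surjective (Pi.single i 1)
    rw [← hx, mat_mulVec]
    show (((k * x : K) : Matrix (Fin 3) (Fin 3) F)) *ᵥ Pi.single 0 1 = _
    rw [Subalgebra.coe_mul, ← mulVec_mulVec]
    rfl
  have hiff : ∀ g : GL (Fin 3) F, g ∈ subalgebraNormalizer K ↔ Normalises e g := by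
    refine fun g => ⟨fun h k => ?_, fun h => ExtField.mem_normalizer_of_conj_mem fun k hk => ?_⟩
    · refine ⟨⟨_, (h (k : Matrix (Fin 3) (Fin 3) F)).1 k.2⟩, ?_⟩
      rw [hmat, hmat]
    · obtain ⟨b, hb⟩ := h ⟨k, hk⟩
      rw [hmat, hmat] at hb
      rw [hb]
      exact b.2
  refine isMaximalIn_of inf_le_right ?_ fun M hHM hMK g hg hg' => ?_
  · obtain ⟨t, ht, htn⟩ := exists_not_normalises e
    exact ⟨t, ht, fun h => htn ((hiff t).1 h.1)⟩
  · refine specialLinear_le_of_singer e h4 ?_ ?_ hMK hg fun h => hg' ⟨(hiff g).2 h, hMK hg⟩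
    · exact fun c hc => hHM ⟨(hiff _).2 (normalises_gl e c), gl_mem_specialLinear e hc⟩
    · exact hHM ⟨(hiff _).2 (normalises_frob e), frob_mem_specialLinear e⟩

end CfsgLib.SLThree.Singer
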