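import Cfsg.Agent.SLThree.Singer.Flags
import Mathlib.GroupTheory.Coset.Card

/-!
# Trace-zero elements by the class of the norm modulo cubes

With `A`, `B`, `C` points of trace zero in the three classes, `A + B + C = q + 1` and
`3 (A² + B² + C²) = q² + 4 q + 1`, so each class has about `(q + 1)/3` points.
-/

set_option autoImplicit false
set_option linter.unusedSectionVars false

namespace CfsgLib.SLThree.Singer

open Matrix Cfsg.Geo CfsgLib.MaxSub
open scoped Classical

variable {F : Type*} [Field F] [Fintype F]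

/-- Equality modulo non-zero cubes. -/
def Cls (m n : F) : Prop := ∃ t : F, t ≠ 0 ∧ n = t ^ 3 * m

theorem Cls.refl (m : F) : Cls m m := ⟨1, one_ne_zero, by ring⟩

theorem Cls.symm {m n : F} : Cls m n → Cls n m := fun ⟨t, ht, h⟩ =>
  ⟨t⁻¹, inv_ne_zero ht, by rw [h]; field_simp⟩

theorem Cls.trans {m n k : F} : Cls m n → Cls n k → Cls m k := fun ⟨t, ht, h⟩ ⟨s, hs, h'⟩ =>
  ⟨s * t, mul_ne_zero hs ht, by rw [h', h]; ring⟩

theorem Cls.mul_left {m n : F} (k : F) : Cls m n → Cls (k * m) (k * n) := fun ⟨t, ht, h⟩ =>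
  ⟨t, ht, by rw [h]; ring⟩

theorem Cls.cancel_left {m n k : F} (hk : k ≠ 0) (h : Cls (k * m) (k * n)) : Cls m n :=
  let ⟨t, ht, e⟩ := h; ⟨t, ht, mul_left_cancel₀ hk (by rw [e]; ring)⟩

/-- Three classes. -/
theorem exists_noncube (h3 : 3 ∣ Fintype.card F - 1) :
    ∃ g : F, g ≠ 0 ∧ ¬ Cls 1 g ∧ ¬ Cls 1 (g ^ 2) ∧
      ∀ m : F, m ≠ 0 → Cls 1 m ∨ Cls g m ∨ Cls (g ^ 2) m := by
  obtain ⟨γ, hγ⟩ := IsCyclic.exists_ofOrder_eq_natCard (α := Fˣ)
  rw [Nat.card_units, Nat.card_eq_fintype_card] at hγ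
  have hmem : ∀ u : Fˣ, ∃ k : ℕ, γ ^ k = u := fun u => by
    have : Submonoid.powers γ = ⊤ := by
      refine eq_top_iff.2 fun x _ => ?_
      rw [mem_powers_iff_mem_zpowers, Subgroup.eq_top_of_card_eq (Subgroup.zpowers γ) (by
        rw [Nat.card_zpowers, hγ, Nat.card_units, Nat.card_eq_fintype_card])]
      exact Subgroup.mem_top x
    exact (this ▸ Submonoid.mem_top u : u ∈ Submonoid.powers γ)
  have hnot : ∀ k : ℕ, ¬ 3 ∣ k → ¬ Cls 1 ((γ : F) ^ k) := by
    rintro k hk ⟨t, ht, h⟩
    rw [mul_one] at h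
    obtain ⟨l, hl⟩ := hmem (Units.mk0 t ht)
    have h' : γ ^ k = γ ^ (3 * l) := Units.ext (by
      rw [Units.val_pow_eq_pow_val, h, mul_comm, pow_mul, hl, Units.val_pow_eq_pow_val, Units.val_mk0])
    rw [pow_eq_pow_iff_modEq, hγ] at h'
    refine hk ((Nat.ModEq.dvd_iff (h'.of_dvd h3) dvd_rfl).2 ⟨l, rfl⟩)
  refine ⟨γ, γ.ne_zero, ?_, ?_, fun m hm => ?_⟩
  · simpa using hnot 1 (by norm_num)
  · exact hnot 2 (by norm_num)
  · obtain ⟨k, hk⟩ := hmem (Units.mk0 m hm)
    have hm' : (γ : F) ^ k = m := by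
      have := congrArg Units.val hk
      simpa using this
    obtain ⟨l, hl | hl | hl⟩ : ∃ l, k = 3 * l ∨ k = 3 * l + 1 ∨ k = 3 * l + 2 := ⟨k / 3, by omega⟩
    · exact Or.inl ⟨(γ : F) ^ l, pow_ne_zero _ γ.ne_zero, by rw [← hm', hl]; ring⟩
    · exact Or.inr (Or.inl ⟨(γ : F) ^ l, pow_ne_zero _ γ.ne_zero, by rw [← hm', hl]; ring⟩)
    · exact Or.inr (Or.inr ⟨(γ : F) ^ l, pow_ne_zero _ γ.ne_zero, by rw [← hm', hl]; ring⟩)

variable {L : Type*} [Field L] [Algebra F L] [Fintype L] (e : L ≃ₗ[F] (Fin 3 → F))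

/-- Non-zero elements with norm in the class of `n`. -/
noncomputable def classSet (n : F) : Finset L :=
  Finset.univ.filter fun d : L => d ≠ 0 ∧ Cls n (Algebra.norm F d)

/-- Those of trace zero. -/
noncomputable def traceZero (n : F) : Finset L :=
  (classSet (L := L) n).filter fun d => Algebra.trace F L d = 0

theorem mem_classSet {n : F} {d : L} :
    d ∈ classSet n ↔ d ≠ 0 ∧ Cls n (Algebra.norm F d) := by simp [classSet]

theorem mem_traceZero {n : F} {d : L} :
    d ∈ traceZero n ↔ (d ≠ 0 ∧ Cls n (Algebra.norm F d)) ∧ Algebra.trace F L d = 0 := by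
  simp [traceZero, mem_classSet]

theorem classSet_congr {m n : F} (h : Cls m n) : classSet (L := L) m = classSet n :=
  Finset.ext fun d => by
    simp only [mem_classSet]
    exact and_congr_right fun _ => ⟨h.symm.trans, h.trans⟩

theorem traceZero_congr {m n : F} (h : Cls m n) : traceZero (L := L) m = traceZero n := by
  rw [traceZero, traceZero, classSet_congr h]

/-- The classes partition the non-zero elements. -/
theorem card_filter_classes {g : F} (hg : g ≠ 0) (h1 : ¬ Cls 1 g) (h2 : ¬ Cls 1 (g ^ 2))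
    (hall : ∀ m : F, m ≠ 0 → Cls 1 m ∨ Cls g m ∨ Cls (g ^ 2) m) {n : F} (hn : n ≠ 0) (P : L → Prop) :
    ((Finset.univ : Finset L).filter fun d => d ≠ 0 ∧ P d).card =
      ((classSet (L := L) n).filter P).card + ((classSet (L := L) (n * g)).filter P).card +
        ((classSet (L := L) (n * g ^ 2)).filter P).card := by
  rw [← Finset.card_union_of_disjoint, ← Finset.card_union_of_disjoint]
  · congr 1
    ext d
    simp only [Finset.mem_union, Finset.mem_filter, Finset.mem_univ, true_and, mem_classSet]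
    constructor
    · rintro ⟨hd, hP⟩
      rcases hall (Algebra.norm F d / n) (div_ne_zero (Algebra.norm_ne_zero_iff.2 hd) hn) with h | h | h
      · exact Or.inl (Or.inl ⟨⟨hd, by simpa [mul_div_cancel₀ _ hn] using h.mul_left n⟩, hP⟩)
      · exact Or.inl (Or.inr ⟨⟨hd, by simpa [mul_div_cancel₀ _ hn] using h.mul_left n⟩, hP⟩)
      · exact Or.inr ⟨⟨hd, by simpa [mul_div_cancel₀ _ hn] using h.mul_left n⟩, hP⟩
    · rintro ((⟨⟨hd, -⟩, hP⟩ | ⟨⟨hd, -⟩, hP⟩) | ⟨⟨hd, -⟩, hP⟩) <;> exact ⟨hd, hP⟩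
  · rw [Finset.disjoint_union_left]
    constructor <;> rw [Finset.disjoint_left] <;> intro d hd hd' <;>
      simp only [Finset.mem_filter, mem_classSet] at hd hd'
    · exact h2 (Cls.cancel_left hn (by simpa using hd.1.2.trans hd'.1.2.symm))
    · have h' : Cls (n * g) (n * g ^ 2) := hd.1.2.trans hd'.1.2.symm
      exact h1 (Cls.cancel_left hg (by simpa [pow_two] using h'.cancel_left hn))
  · rw [Finset.disjoint_left]
    intro d hd hd'
    simp only [Finset.mem_filter, mem_classSet] at hd hd'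
    exact h1 (Cls.cancel_left hn (by simpa using hd.1.2.trans hd'.1.2.symm))

/-- A set of non-zero elements stable under scalars. -/
theorem card_dvd_scalar (S : Finset L) (h0 : ∀ d ∈ S, d ≠ 0)
    (hst : ∀ d ∈ S, ∀ c : F, c ≠ 0 → c • d ∈ S) : Fintype.card F - 1 ∣ S.card := by
  set f : Fˣ →* Lˣ := Units.map (algebraMap F L : F →* L) with hf
  set K := f.range
  set S' : Set Lˣ := {u | (u : L) ∈ S} with hS'
  have hpre : (QuotientGroup.mk : Lˣ → Lˣ ⧸ K) ⁻¹' (QuotientGroup.mk '' S') = S' := by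
    refine Set.Subset.antisymm ?_ (Set.subset_preimage_image _ _)
    rintro u ⟨v, hv, e'⟩
    obtain ⟨c, hc⟩ := QuotientGroup.eq.1 e'
    have hu : (u : L) = (c : F) • (v : L) := by
      have := congrArg Units.val (congrArg (v * ·) hc)
      simp only [mul_inv_cancel_left, Units.val_mul, hf, Units.coe_map, MonoidHom.coe_coe] at this
      rw [Algebra.smul_def, mul_comm]
      exact this.symm
    show (u : L) ∈ S
    rw [hu]
    exact hst _ hv _ c.ne_zero
  have hcard : Nat.card S' = S.card := by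
    rw [← Nat.card_eq_finsetCard]
    exact Nat.card_congr
      { toFun := fun u => ⟨(u.1 : L), u.2⟩
        invFun := fun d => ⟨Units.mk0 d.1 (h0 _ d.2), d.2⟩
        left_inv := fun u => Subtype.ext (Units.ext rfl)
        right_inv := fun d => rfl }
  have hK : Nat.card K = Fintype.card F - 1 := by
    rw [← Nat.card_congr (MonoidHom.ofInjective (f := f) (Units.map_injective (algebraMap F L).injective)).toEquiv,
      Nat.card_units, Nat.card_eq_fintype_card]
  rw [← hcard, ← hpre, Nat.card_congr (QuotientGroup.preimageMkEquivSubgroupProdSet K _), Nat.card_prod, hK]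
  exact dvd_mul_right _ _

include e

theorem card_trace_eq_zero :
    ((Finset.univ : Finset L).filter fun d => Algebra.trace F L d = 0).card = Fintype.card F ^ 2 := by
  haveI : Algebra.IsSeparable F L := inferInstance
  set T := Algebra.trace F L
  have hT : Function.Surjective T := Algebra.trace_surjective F L
  have h := T.finrank_range_add_finrank_ker
  rw [LinearMap.range_eq_top.2 hT, finrank_top, Module.finrank_self, finrank_eq_three e] at h
  have hk := Module.natCard_eq_pow_finrank (K := F) (V := LinearMap.ker T)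
  rw [show Module.finrank F (LinearMap.ker T) = 2 by omega, Nat.card_eq_fintype_card (α := F)] at hk
  rw [← hk, ← Nat.card_eq_finsetCard]
  exact Nat.card_congr (Equiv.subtypeEquivRight fun d => by simp [T])

theorem card_two_traces {g : L} (hg : ∀ z : F, algebraMap F L z ≠ g) :
    ((Finset.univ : Finset L).filter fun d => d ≠ 0 ∧ Algebra.trace F L d = 0 ∧
      Algebra.trace F L (g * d) = 0).card = Fintype.card F - 1 := by
  have hi : Indep (tf e 1) (tf e g) := (indep_or_smul (fun h => one_ne_zero (tf_injective e (a₁ := 1) (a₂ := 0) (by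
    rw [h]; funext j; simp [tf]))) _).resolve_right fun ⟨z, hz⟩ => hg z (tf_injective e (by rw [← hz, ← tf_smul, mul_one]))
  set O := e.symm (crossProduct (tf e 1) (tf e g)) with hO
  have hO0 : O ≠ 0 := fun h => hi.cross_ne_zero (by
    rw [← e.apply_symm_apply (crossProduct (tf e 1) (tf e g)), ← hO, h, map_zero])
  have hO1 : Algebra.trace F L O = 0 := by
    rw [← one_mul O, ← tf_dot e, hO, e.apply_symm_apply, dot_self_cross]
  have hOg : Algebra.trace F L (g * O) = 0 := by
    rw [← tf_dot e, hO, e.apply_symm_apply, dot_cross_self]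
  rw [show ((Finset.univ : Finset L).filter fun d => d ≠ 0 ∧ Algebra.trace F L d = 0 ∧
      Algebra.trace F L (g * d) = 0) = ((Finset.univ : Finset F).erase 0).image (fun c => c • O) from ?_,
    Finset.card_image_of_injective _ (smul_left_injective F hO0), Finset.card_erase_of_mem (Finset.mem_univ _),
    Finset.card_univ]
  ext d
  simp only [Finset.mem_filter, Finset.mem_univ, true_and, Finset.mem_image, Finset.mem_erase, and_true]
  constructor
  · rintro ⟨hd, h1, h2⟩
    obtain ⟨c, hc⟩ := exists_smul_of_dot hi (w := e d) hi.cross_ne_zero (dot_self_cross _ _) (dot_cross_self _ _)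
      (by rw [tf_dot, one_mul, h1]) (by rw [tf_dot, h2])
    refine ⟨c, fun h => hd (e.injective (by rw [map_zero, ← hc, h, zero_smul])), e.injective ?_⟩
    rw [map_smul, hO, e.apply_symm_apply, hc]
  · rintro ⟨c, hc, rfl⟩
    exact ⟨smul_ne_zero hc hO0, by rw [map_smul, hO1, smul_zero], by rw [mul_smul_comm, map_smul, hOg, smul_zero]⟩

/-- The first and second moments of the class sizes. -/
theorem moments {g : F} (hg : g ≠ 0) (h1 : ¬ Cls 1 g) (h2 : ¬ Cls 1 (g ^ 2))
    (hall : ∀ m : F, m ≠ 0 → Cls 1 m ∨ Cls g m ∨ Cls (g ^ 2) m) {n : F} (hn : n ≠ 0) :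
    ∃ A B C : ℕ, (traceZero (L := L) n).card = (Fintype.card F - 1) * A ∧
      (traceZero (L := L) (n * g)).card = (Fintype.card F - 1) * B ∧
      (traceZero (L := L) (n * g ^ 2)).card = (Fintype.card F - 1) * C ∧
      A + B + C = Fintype.card F + 1 ∧
      3 * (A ^ 2 + B ^ 2 + C ^ 2) = Fintype.card F ^ 2 + 4 * Fintype.card F + 1 := by
  have hst : ∀ k : F, Fintype.card F - 1 ∣ (traceZero (L := L) k).card := fun k => by
    refine card_dvd_scalar _ (fun d hd => (mem_traceZero.1 hd).1.1) fun d hd c hc => ?_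
    obtain ⟨⟨hd0, hcl⟩, ht⟩ := mem_traceZero.1 hd
    refine mem_traceZero.2 ⟨⟨smul_ne_zero hc hd0, hcl.trans ⟨c, hc, ?_⟩⟩, by rw [map_smul, ht, smul_zero]⟩
    rw [Algebra.smul_def, map_mul, Algebra.norm_algebraMap, finrank_eq_three e]
  obtain ⟨A, hA⟩ := hst n
  obtain ⟨B, hB⟩ := hst (n * g)
  obtain ⟨C, hC⟩ := hst (n * g ^ 2)
  refine ⟨A, B, C, hA, hB, hC, ?_⟩
  obtain ⟨Q, hQ⟩ : ∃ Q, Fintype.card F = Q + 1 :=
    ⟨Fintype.card F - 1, by have := Fintype.card_pos (α := F); omega⟩
  have hQ1 : 1 ≤ Q := by have := Fintype.one_lt_card (α := F); omega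
  -- first moment
  have hsum := card_filter_classes hg h1 h2 hall hn (fun d : L => Algebra.trace F L d = 0)
  change _ = (traceZero (L := L) n).card + (traceZero (L := L) (n * g)).card +
    (traceZero (L := L) (n * g ^ 2)).card at hsum
  have hz : ((Finset.univ : Finset L).filter fun d => d ≠ 0 ∧ Algebra.trace F L d = 0).card =
      Fintype.card F ^ 2 - 1 := by
    rw [← card_trace_eq_zero e, show ((Finset.univ : Finset L).filter fun d => d ≠ 0 ∧ Algebra.trace F L d = 0) =
      ((Finset.univ : Finset L).filter fun d => Algebra.trace F L d = 0).erase 0 by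
        ext d; simp [Finset.mem_erase], Finset.card_erase_of_mem (by simp)]
  rw [hz, hA, hB, hC, ← Nat.mul_add, ← Nat.mul_add] at hsum
  have hABC : A + B + C = Fintype.card F + 1 := by
    rw [hQ] at hsum ⊢
    have : (Q + 1) ^ 2 - 1 = Q * (Q + 2) := by
      have : (Q + 1) ^ 2 = Q * (Q + 2) + 1 := by ring
      omega
    rw [this, Nat.add_sub_cancel] at hsum
    exact (Nat.eq_of_mul_eq_mul_left (by omega) hsum).symm
  refine ⟨hABC, ?_⟩
  -- the elements of class one
  set C₁ := classSet (L := L) (1 : F)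
  have hC₁ : 3 * C₁.card + 1 = Fintype.card F ^ 3 := by
    have h := card_filter_classes (L := L) hg h1 h2 hall one_ne_zero (fun _ => True)
    simp only [one_mul, Finset.filter_true, and_true] at h
    obtain ⟨l, hl⟩ := FiniteField.norm_surjective F L g
    have hl0 : l ≠ 0 := fun h0 => hg (by rw [← hl, h0]; simp)
    have htr : ∀ k : F, k ≠ 0 → (classSet (L := L) k).card = (classSet (L := L) (k * g)).card := fun k _ => by
      refine Finset.card_bij' (fun d _ => l * d) (fun d _ => l⁻¹ * d) (fun d hd => ?_) (fun d hd => ?_)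
        (fun d _ => by rw [inv_mul_cancel_left₀ hl0]) (fun d _ => by rw [mul_inv_cancel_left₀ hl0])
      · obtain ⟨hd0, hcl⟩ := mem_classSet.1 hd
        refine mem_classSet.2 ⟨mul_ne_zero hl0 hd0, ?_⟩
        rw [map_mul, hl, mul_comm k]
        exact hcl.mul_left g
      · obtain ⟨hd0, hcl⟩ := mem_classSet.1 hd
        refine mem_classSet.2 ⟨mul_ne_zero (inv_ne_zero hl0) hd0, Cls.cancel_left hg ?_⟩
        rwa [← hl, ← map_mul, mul_inv_cancel_left₀ hl0, hl, mul_comm g k]
    have e1 := htr 1 one_ne_zero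
    have e2 := htr g hg
    rw [one_mul] at e1
    rw [← pow_two] at e2
    have htot : ((Finset.univ : Finset L).filter fun d => d ≠ 0).card = Fintype.card L - 1 := by
      rw [show ((Finset.univ : Finset L).filter fun d => d ≠ 0) = Finset.univ.erase 0 by ext d; simp,
        Finset.card_erase_of_mem (Finset.mem_univ _), Finset.card_univ]
    have hL := card_L e
    rw [Nat.card_eq_fintype_card] at hL
    have := Fintype.card_pos (α := L)
    have hh : Fintype.card L - 1 = (classSet (L := L) (1 : F)).card + (classSet (L := L) g).card +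
        (classSet (L := L) (g ^ 2)).card := by rw [← htot]; convert h using 3
    show 3 * (classSet (L := L) (1 : F)).card + 1 = _
    omega
  -- pairs in the same class
  set Z := (Finset.univ : Finset L).filter fun d => d ≠ 0 ∧ Algebra.trace F L d = 0
  set X := Z.sigma fun d => traceZero (L := L) (Algebra.norm F d) with hX
  set Y := C₁.sigma fun h => Z.filter fun d => Algebra.trace F L (h * d) = 0 with hY
  have hXY : X.card = Y.card := by
    refine Finset.card_bij' (fun z _ => ⟨z.2 / z.1, z.1⟩) (fun z _ => ⟨z.2, z.1 * z.2⟩)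
      (fun z hz' => ?_) (fun z hz' => ?_) (fun z hz' => ?_) (fun z hz' => ?_)
    · obtain ⟨hd, hd'⟩ := Finset.mem_sigma.1 hz'
      obtain ⟨hd0, -⟩ := (Finset.mem_filter.1 hd).2
      obtain ⟨⟨hd'0, hcl⟩, ht⟩ := mem_traceZero.1 hd'
      refine Finset.mem_sigma.2 ⟨mem_classSet.2 ⟨div_ne_zero hd'0 hd0, ?_⟩, Finset.mem_filter.2 ⟨hd, ?_⟩⟩
      · refine Cls.cancel_left (Algebra.norm_ne_zero_iff.2 hd0) ?_
        rwa [mul_one, ← map_mul, mul_div_cancel₀ _ hd0]
      · rwa [div_mul_cancel₀ _ hd0]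
    · obtain ⟨hh, hd⟩ := Finset.mem_sigma.1 hz'
      obtain ⟨hdZ, ht⟩ := Finset.mem_filter.1 hd
      obtain ⟨hd0, -⟩ := (Finset.mem_filter.1 hdZ).2
      obtain ⟨hh0, hcl⟩ := mem_classSet.1 hh
      refine Finset.mem_sigma.2 ⟨hdZ, mem_traceZero.2 ⟨⟨mul_ne_zero hh0 hd0, ?_⟩, ht⟩⟩
      have := hcl.mul_left (Algebra.norm F z.2)
      rwa [mul_one, ← map_mul, mul_comm] at this
    · obtain ⟨hd, -⟩ := Finset.mem_sigma.1 hz'
      obtain ⟨hd0, -⟩ := (Finset.mem_filter.1 hd).2
      simp [div_mul_cancel₀ _ hd0]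
    · obtain ⟨-, hd⟩ := Finset.mem_sigma.1 hz'
      obtain ⟨hd0, -⟩ := (Finset.mem_filter.1 (Finset.mem_filter.1 hd).1).2
      simp [mul_div_cancel_right₀ _ hd0]
  have hXc : X.card = (traceZero (L := L) n).card ^ 2 + (traceZero (L := L) (n * g)).card ^ 2 +
      (traceZero (L := L) (n * g ^ 2)).card ^ 2 := by
    have hconst : ∀ k : F, ∑ d ∈ traceZero (L := L) k, (traceZero (L := L) (Algebra.norm F d)).card =
        (traceZero (L := L) k).card ^ 2 := fun k => by
      rw [Finset.sum_congr rfl fun d hd => by rw [← traceZero_congr (mem_traceZero.1 hd).1.2],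
        Finset.sum_const, smul_eq_mul, pow_two]
    have hdisj : ∀ {k k' : F}, ¬ Cls k k' → Disjoint (traceZero (L := L) k) (traceZero k') := fun hk =>
      Finset.disjoint_left.2 fun d hd hd' =>
        hk ((mem_traceZero.1 hd).1.2.trans (mem_traceZero.1 hd').1.2.symm)
    have hU : Z = traceZero (L := L) n ∪ traceZero (L := L) (n * g) ∪ traceZero (L := L) (n * g ^ 2) := by
      ext d
      simp only [Z, Finset.mem_filter, Finset.mem_univ, true_and, Finset.mem_union, mem_traceZero]
      constructor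
      · rintro ⟨hd, ht⟩
        rcases hall (Algebra.norm F d / n) (div_ne_zero (Algebra.norm_ne_zero_iff.2 hd) hn) with h | h | h
        · exact Or.inl (Or.inl ⟨⟨hd, by simpa [mul_div_cancel₀ _ hn] using h.mul_left n⟩, ht⟩)
        · exact Or.inl (Or.inr ⟨⟨hd, by simpa [mul_div_cancel₀ _ hn] using h.mul_left n⟩, ht⟩)
        · exact Or.inr ⟨⟨hd, by simpa [mul_div_cancel₀ _ hn] using h.mul_left n⟩, ht⟩
      · rintro ((⟨⟨hd, -⟩, ht⟩ | ⟨⟨hd, -⟩, ht⟩) | ⟨⟨hd, -⟩, ht⟩) <;> exact ⟨hd, ht⟩
    have hn1 : ¬ Cls n (n * g) := fun h => h1 (Cls.cancel_left hn (by simpa using h))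
    have hn2 : ¬ Cls n (n * g ^ 2) := fun h => h2 (Cls.cancel_left hn (by simpa using h))
    have hn3 : ¬ Cls (n * g) (n * g ^ 2) := fun h =>
      h1 (Cls.cancel_left hg (by simpa [pow_two] using h.cancel_left hn))
    rw [hX, Finset.card_sigma, hU, Finset.sum_union (Finset.disjoint_union_left.2 ⟨hdisj hn2, hdisj hn3⟩),
      Finset.sum_union (hdisj hn1), hconst, hconst, hconst]
  have hYc : Y.card + C₁.card * 0 = (Fintype.card F - 1) * (Fintype.card F ^ 2 - 1) +
      (C₁.card - (Fintype.card F - 1)) * (Fintype.card F - 1) := by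
    rw [Nat.mul_zero, add_zero, hY, Finset.card_sigma,
      ← Finset.sum_filter_add_sum_filter_not C₁ (fun h => ∃ z : F, algebraMap F L z = h)]
    have hscal : C₁.filter (fun h => ∃ z : F, algebraMap F L z = h) =
        ((Finset.univ : Finset F).erase 0).image (algebraMap F L) := by
      ext h
      simp only [Finset.mem_filter, Finset.mem_image, Finset.mem_erase, Finset.mem_univ, and_true, C₁, mem_classSet]
      constructor
      · rintro ⟨⟨hh, -⟩, z, rfl⟩
        exact ⟨z, fun hz => hh (by rw [hz, map_zero]), rfl⟩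
      · rintro ⟨z, hz, rfl⟩
        exact ⟨⟨(map_ne_zero _).2 hz, z, hz, by rw [Algebra.norm_algebraMap, finrank_eq_three e, mul_one]⟩, z, rfl⟩
    have hsc : (C₁.filter fun h => ∃ z : F, algebraMap F L z = h).card = Fintype.card F - 1 := by
      rw [hscal, Finset.card_image_of_injective _ (algebraMap F L).injective,
        Finset.card_erase_of_mem (Finset.mem_univ _), Finset.card_univ]
    have hnsc : (C₁.filter fun h => ¬ ∃ z : F, algebraMap F L z = h).card = C₁.card - (Fintype.card F - 1) := by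
      have := Finset.card_filter_add_card_filter_not (s := C₁) (fun h => ∃ z : F, algebraMap F L z = h)
      omega
    rw [Finset.sum_const_nat (m := Fintype.card F ^ 2 - 1) (fun h hh => ?_),
      Finset.sum_const_nat (m := Fintype.card F - 1) (fun h hh => ?_), hsc, hnsc]
    · push Not at *
      obtain ⟨-, hh'⟩ := Finset.mem_filter.1 hh
      rw [← card_two_traces e (g := h) hh']
      congr 1
      ext d
      simp [Z, and_assoc]
    · obtain ⟨-, z, rfl⟩ := Finset.mem_filter.1 hh
      rw [← hz]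
      refine congrArg Finset.card (Finset.filter_true_of_mem fun d hd => ?_)
      rw [← Algebra.smul_def, map_smul, (Finset.mem_filter.1 hd).2.2, smul_zero]
  rw [Nat.mul_zero, add_zero, ← hXY, hXc, hA, hB, hC] at hYc
  rw [hQ] at hYc hC₁ hABC ⊢
  rw [Nat.add_sub_cancel] at hYc
  have e1 : (Q + 1) ^ 2 - 1 = Q * (Q + 2) := by
    have : (Q + 1) ^ 2 = Q * (Q + 2) + 1 := by ring
    omega
  rw [e1] at hYc
  obtain ⟨K, hK⟩ : ∃ K, C₁.card = Q + K := ⟨C₁.card - Q, by nlinarith [Nat.zero_le (Q * Q * Q), Nat.zero_le (Q * Q), Nat.sub_add_cancel (show Q ≤ C₁.card by nlinarith [Nat.zero_le (Q * Q * Q), Nat.zero_le (Q * Q)])]⟩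
  rw [hK, Nat.add_sub_cancel_left] at hYc
  have h3K : 3 * K = Q * (Q ^ 2 + 3 * Q) := by
    have : (Q + 1) ^ 3 = Q * (Q ^ 2 + 3 * Q) + 3 * Q + 1 := by ring
    omega
  have key : Q ^ 2 * (3 * (A ^ 2 + B ^ 2 + C ^ 2)) = Q ^ 2 * ((Q + 1) ^ 2 + 4 * (Q + 1) + 1) := by
    calc Q ^ 2 * (3 * (A ^ 2 + B ^ 2 + C ^ 2)) = 3 * ((Q * A) ^ 2 + (Q * B) ^ 2 + (Q * C) ^ 2) := by ring
      _ = 3 * (Q * (Q * (Q + 2))) + (3 * K) * Q := by rw [hYc]; ring
      _ = _ := by rw [h3K]; ring
  exact Nat.eq_of_mul_eq_mul_left (pow_pos hQ1 2) key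

end CfsgLib.SLThree.Singer
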