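import Cfsg.Agent.SLThree.Singer.Model
import Cfsg.Agent.SLThree.Slopes
import Cfsg.Agent.SLThree.Homology

/-!
# Overgroups of the Singer normaliser: transvections from homologies, double flags

A homology gives a transvection: otherwise its axis is forced to be polar to its centre for a form
invariant under the torus, which contradicts the symmetry of commuting. Every transvection then has a
second axis at its centre and a second centre on its axis.
-/

set_option autoImplicit false
set_option linter.unusedSectionVars false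

namespace CfsgLib.SLThree.Singer

open Matrix Cfsg.Geo CfsgLib.MaxSub

variable {F : Type*} [Field F] [Fintype F] {L : Type*} [Field L] [Algebra F L] [Finite L]
  (e : L ≃ₗ[F] (Fin 3 → F)) {M : Subgroup (GL (Fin 3) F)}

local notation "σ" => (sg (F := F) : L ≃ₐ[F] L)

include e in
theorem norm_div_sg {x : L} (hx : x ≠ 0) : Algebra.norm F (x / σ x) = 1 := by
  have h : Algebra.norm F (x / σ x) * Algebra.norm F (σ x) = Algebra.norm F x := by
    rw [← map_mul, div_mul_cancel₀ _ ((map_ne_zero _).2 hx)]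
  rw [norm_sg e] at h
  exact (mul_eq_right₀ (Algebra.norm_ne_zero_iff.2 hx)).1 h

theorem twist_mulVec (a : Lˣ) (x : L) :
    ((gl e a * frob e : GL (Fin 3) F) : Matrix (Fin 3) (Fin 3) F) *ᵥ e x = e ((a : L) * σ x) := by
  rw [Units.val_mul, ← mulVec_mulVec, frob_mulVec, gl_mulVec]

theorem twist_tf (a : Lˣ) (θ : L) :
    tf e θ ᵥ* (((gl e a * frob e)⁻¹ : GL (Fin 3) F) : Matrix (Fin 3) (Fin 3) F) =
      tf e (σ θ * ((a⁻¹ : Lˣ) : L)) := by
  rw [_root_.mul_inv_rev, Units.val_mul, ← vecMul_vecMul, conj_tf_frob, conj_tf_gl]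

variable (hC : ∀ c : Lˣ, Algebra.norm F (c : L) = 1 → gl e c ∈ M) (hσ : frob e ∈ M)

include hC hσ

theorem twist_mem {a : Lˣ} (h : Algebra.norm F (a : L) = 1) : gl e a * frob e ∈ M :=
  M.mul_mem (hC a h) hσ

/-- A homology gives a transvection. -/
theorem exists_flag_of_hom (h2 : (2 : F) ≠ 0) {v f : Fin 3 → F} (h : Hom M v f) :
    ∃ v a, Flag M v a := by
  by_contra hn
  push Not at hn
  obtain ⟨x, rfl⟩ := e.surjective v
  obtain ⟨θ, rfl⟩ := tf_surjective e f
  have hx : x ≠ 0 := fun h0 => h.ne_left (by rw [h0, map_zero])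
  have hθ : θ ≠ 0 := fun h0 => h.ne_right (by
    funext j; simp [h0, tf])
  let a : Lˣ := Units.mk0 (x / σ x) (div_ne_zero hx ((map_ne_zero _).2 hx))
  have h1 := h.conj (twist_mem e hC hσ (a := a) (norm_div_sg e hx))
  have hax : (a : L) * σ x = x := by simp [a, div_mul_cancel₀ _ ((map_ne_zero (σ : L ≃ₐ[F] L)).2 hx)]
  rw [twist_mulVec, twist_tf, hax] at h1
  have heq := tf_injective e (h.axis_unique h2 hn h1)
  have hu : σ (θ * x) = θ * x := by
    rw [map_mul]
    conv_rhs => rw [heq]
    simp only [a, Units.val_inv_eq_inv_val, Units.val_mk0, inv_div]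
    field_simp
  obtain ⟨z, hz⟩ := mem_range_of_sg_fixed e hu
  have htr : Algebra.trace F L (θ * x) = 1 := by rw [← tf_dot e]; exact h.1
  have hz0 : z ≠ 0 := fun h0 => mul_ne_zero hθ hx (by rw [← hz, h0, map_zero])
  obtain ⟨w, hw, hroot⟩ := exists_w_of_cube (n := (1 : F)) (x₀ := 1) one_ne_zero (one_pow 3)
  obtain ⟨c, hc1, hc2, hc3⟩ := exists_of_no_root e hroot
  have hc0 : c ≠ 0 := fun h0 => by simp [h0] at hc2
  have h2' := h.conj (hC (Units.mk0 c hc0) hc2)
  rw [gl_mulVec, conj_tf_gl] at h2'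
  have hd := h.dot_symm h2 hn h2' (by
    rw [tf_dot, Units.val_mk0, mul_left_comm, ← hz, mul_comm, ← Algebra.smul_def, map_smul, hc1,
      smul_zero])
  rw [tf_dot, mul_right_comm, ← hz, Units.val_inv_eq_inv_val, Units.val_mk0, ← Algebra.smul_def,
    map_smul, smul_eq_mul] at hd
  exact trace_inv_ne_zero e hc2 (by rw [hc3]; simpa using hw) ((mul_eq_zero.1 hd).resolve_left hz0)

/-- Every transvection has a second axis and a second centre. -/
theorem double (h4 : Fintype.card F ≠ 4) (h7 : Fintype.card F ≠ 7) {x θ : L}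
    (h : Flag M (e x) (tf e θ)) :
    Other M (e x) (tf e θ) ∧ ∃ y, Indep (e x) (e y) ∧ Flag M (e y) (tf e θ) := by
  have hx : x ≠ 0 := fun h0 => h.centre_ne (by rw [h0, map_zero])
  have hθ : θ ≠ 0 := fun h0 => h.axis_ne (by funext j; simp [h0, tf])
  set u := θ * x with hu
  have hu0 : u ≠ 0 := mul_ne_zero hθ hx
  have htu : Algebra.trace F L u = 0 := by rw [hu, ← tf_dot e]; exact h.dot
  by_cases hp : ∃ μ : F, algebraMap F L μ * u = σ u
  · -- the conjugates of `u` are proportional
    obtain ⟨μ, hμ⟩ := hp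
    have hs2 : sigma2 F u = 0 := by
      have h2 : σ (σ u) = algebraMap F L μ ^ 2 * u := by
        rw [← hμ, map_mul, AlgEquiv.commutes, ← hμ]; ring
      have ht := trace_eq e u
      rw [htu, map_zero, h2, ← hμ] at ht
      have h3 : 1 + algebraMap F L μ + algebraMap F L μ ^ 2 = 0 :=
        (mul_eq_zero.1 (show (1 + algebraMap F L μ + algebraMap F L μ ^ 2) * u = 0 by
          linear_combination -ht)).resolve_right hu0
      rw [sigma2, h2, ← hμ]
      linear_combination algebraMap F L μ * u ^ 2 * h3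
    obtain ⟨w, hw, hroot⟩ := exists_w (n := Algebra.norm F u) (Algebra.norm_ne_zero_iff.2 hu0) h4 h7
    obtain ⟨d, hd1, hd2, hd3⟩ := exists_of_no_root e hroot
    have hd0 : d ≠ 0 := fun h0 => Algebra.norm_ne_zero_iff.2 hu0 (by rw [← hd2, h0]; simp)
    let c : Lˣ := Units.mk0 (d / u) (div_ne_zero hd0 hu0)
    have hcn : Algebra.norm F (c : L) = 1 := by
      have h' : Algebra.norm F (c : L) * Algebra.norm F u = Algebra.norm F d := by
        rw [← map_mul]
        simp [c, div_mul_cancel₀ _ hu0]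
      rw [hd2] at h'
      exact (mul_eq_right₀ (Algebra.norm_ne_zero_iff.2 hu0)).1 h'
    have hcF : ∀ z : F, algebraMap F L z ≠ (c : L) := by
      intro z hz
      apply hw
      have hdz : d = algebraMap F L z * u := by
        rw [hz]; simp [c, div_mul_cancel₀ _ hu0]
      rw [hdz, sigma2_algebraMap_mul, hs2, mul_zero] at hd3
      exact (map_eq_zero _).1 hd3.symm
    have h1 := h.conj (hC c hcn)
    rw [gl_mulVec, conj_tf_gl] at h1
    have hcx : Algebra.trace F L (θ * ((c : L) * x)) = 0 := by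
      rw [show θ * ((c : L) * x) = (c : L) * u by rw [hu]; ring]
      simp [c, div_mul_cancel₀ _ hu0, hd1]
    have h3 := h.spread h1 (by rw [tf_dot, hcx])
    have h4' := h3.conj (hC c⁻¹ (by
      have := congrArg (· * Algebra.norm F ((c⁻¹ : Lˣ) : L)) hcn
      simp only [← map_mul, one_mul, ← Units.val_mul, mul_inv_cancel, Units.val_one, map_one] at this
      exact this.symm))
    rw [gl_mulVec, conj_tf_gl, inv_inv, Units.inv_mul_cancel_left] at h4'
    refine ⟨⟨_, (indep_or_smul h.axis_ne _).resolve_right ?_, h4'⟩, (c : L) * x,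
      (indep_or_smul h.centre_ne _).resolve_right ?_, h3⟩
    · rintro ⟨z, hz⟩
      rw [← tf_smul] at hz
      exact hcF z (mul_left_cancel₀ hθ (by rw [mul_comm]; exact tf_injective e hz))
    · rintro ⟨z, hz⟩
      rw [← map_smul, Algebra.smul_def] at hz
      exact hcF z (mul_right_cancel₀ hx (e.injective hz))
  · push Not at hp
    have hne : ∀ y : L, y ≠ 0 → ∀ (z : F) (v : L), v * y = σ u → algebraMap F L z * (u / y) ≠ v := by
      intro y hy z v hv he
      apply hp z
      rw [← hv, ← he]
      field_simp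
    constructor
    · let a : Lˣ := Units.mk0 (x / σ x) (div_ne_zero hx ((map_ne_zero _).2 hx))
      have h1 := h.conj (twist_mem e hC hσ (a := a) (norm_div_sg e hx))
      rw [twist_mulVec, twist_tf, show (a : L) * σ x = x by
        simp [a, div_mul_cancel₀ _ ((map_ne_zero (σ : L ≃ₐ[F] L)).2 hx)]] at h1
      refine ⟨_, (indep_or_smul h.axis_ne _).resolve_right ?_, h1⟩
      rintro ⟨z, hz⟩
      rw [← tf_smul] at hz
      refine hne x hx z (σ θ * ((a⁻¹ : Lˣ) : L)) ?_ (by rw [hu, mul_div_cancel_right₀ _ hx]; exact tf_injective e hz)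
      simp only [a, Units.val_inv_eq_inv_val, Units.val_mk0, inv_div, hu, map_mul]
      field_simp
    · let a : Lˣ := Units.mk0 (σ θ / θ) (div_ne_zero ((map_ne_zero _).2 hθ) hθ)
      have han : Algebra.norm F (a : L) = 1 := by
        have h' : Algebra.norm F (a : L) * Algebra.norm F θ = Algebra.norm F (σ θ) := by
          rw [← map_mul]
          simp [a, div_mul_cancel₀ _ hθ]
        rw [norm_sg e] at h'
        exact (mul_eq_right₀ (Algebra.norm_ne_zero_iff.2 hθ)).1 h'
      have h1 := h.conj (twist_mem e hC hσ han)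
      rw [twist_mulVec, twist_tf, show σ θ * ((a⁻¹ : Lˣ) : L) = θ by
        simp only [a, Units.val_inv_eq_inv_val, Units.val_mk0, inv_div]
        rw [mul_comm, div_mul_cancel₀ _ ((map_ne_zero (σ : L ≃ₐ[F] L)).2 hθ)]] at h1
      refine ⟨(a : L) * σ x, (indep_or_smul h.centre_ne _).resolve_right ?_, h1⟩
      rintro ⟨z, hz⟩
      rw [← map_smul, Algebra.smul_def] at hz
      refine hne θ hθ z ((a : L) * σ x) ?_ (by rw [hu, mul_div_cancel_left₀ _ hθ]; exact e.injective hz)
      simp only [a, Units.val_mk0, hu, map_mul]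
      field_simp

end CfsgLib.SLThree.Singer
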