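import Cfsg.Agent.SLThree.Basic
import Mathlib.FieldTheory.Finite.Trace
import Mathlib.FieldTheory.Finite.GaloisField
import Mathlib.RingTheory.Norm.Transitivity
import Mathlib.RingTheory.Trace.Basic
import Mathlib.Algebra.Polynomial.SpecificDegree

/-!
# The field model of the Singer normaliser in `GL₃`

A cubic extension `L` of a finite field `F` with a coordinate isomorphism `e : L ≃ F³`: multiplications,
the Frobenius, linear forms as traces, and elements of given norm, trace zero and given second symmetric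
function.
-/

set_option autoImplicit false
set_option linter.unusedSectionVars false

namespace CfsgLib.SLThree.Singer

open Matrix Cfsg.Geo CfsgLib.MaxSub

variable {F : Type*} [Field F] [Fintype F] {L : Type*} [Field L] [Algebra F L] [Finite L]
  (e : L ≃ₗ[F] (Fin 3 → F))

include e in
theorem finrank_eq_three : Module.finrank F L = 3 := by
  rw [e.finrank_eq, Module.finrank_fin_fun]

include e in
theorem card_L : Nat.card L = Fintype.card F ^ 3 := by
  rw [Module.natCard_eq_pow_finrank (K := F), finrank_eq_three e, Nat.card_eq_fintype_card]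

/-- The Frobenius of `L` over `F`. -/
noncomputable def sg : L ≃ₐ[F] L := FiniteField.frobeniusAlgEquivOfAlgebraic F L

theorem sg_apply (x : L) : (sg (F := F) : L ≃ₐ[F] L) x = x ^ Fintype.card F :=
  congrFun (FiniteField.coe_frobeniusAlgEquivOfAlgebraic F L) x

local notation "σ" => (sg (F := F) : L ≃ₐ[F] L)

include e in
theorem sg_three (x : L) : σ (σ (σ x)) = x := by
  have := Fintype.ofFinite L
  simp only [sg_apply]
  rw [← pow_mul, ← pow_mul, ← mul_assoc, show Fintype.card F * Fintype.card F * Fintype.card F = Fintype.card F ^ 3 by ring,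
    ← card_L e, Nat.card_eq_fintype_card, FiniteField.pow_card]

include e in
theorem mem_range_of_sg_fixed {x : L} (h : σ x = x) : ∃ c : F, algebraMap F L c = x := by
  refine (IsGalois.mem_range_algebraMap_iff_fixed x).2 fun f => ?_
  obtain ⟨n, rfl⟩ := (FiniteField.bijective_frobeniusAlgEquivOfAlgebraic_pow F L).2 f
  rw [AlgEquiv.coe_pow]
  exact Function.iterate_fixed h n.1

include e in
theorem trace_eq (x : L) : algebraMap F L (Algebra.trace F L x) = x + σ x + σ (σ x) := by
  rw [FiniteField.algebraMap_trace_eq_sum_pow, finrank_eq_three e]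
  simp only [Finset.sum_range_succ, Finset.sum_range_zero, zero_add, pow_zero, pow_one,
    Nat.card_eq_fintype_card, sg_apply]
  rw [← pow_mul, pow_two]

include e in
theorem norm_eq (x : L) : algebraMap F L (Algebra.norm F x) = x * σ x * σ (σ x) := by
  rw [FiniteField.algebraMap_norm_eq_prod_pow, finrank_eq_three e]
  simp only [Finset.prod_range_succ, Finset.prod_range_zero, one_mul, pow_zero, pow_one,
    Nat.card_eq_fintype_card, sg_apply]
  rw [← pow_mul, pow_two]

include e in
theorem trace_sg (x : L) : Algebra.trace F L (σ x) = Algebra.trace F L x :=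
  (algebraMap F L).injective (by rw [trace_eq e, trace_eq e, sg_three e]; ring)

include e in
theorem norm_sg (x : L) : Algebra.norm F (σ x) = Algebra.norm F x :=
  (algebraMap F L).injective (by rw [norm_eq e, norm_eq e, sg_three e]; ring)

/-- The second symmetric function of the conjugates. -/
noncomputable def sigma2 (F : Type*) [Field F] [Fintype F] [Algebra F L] (x : L) : L :=
  x * (sg (F := F) : L ≃ₐ[F] L) x +
    (sg (F := F) : L ≃ₐ[F] L) x * (sg (F := F) : L ≃ₐ[F] L) ((sg (F := F) : L ≃ₐ[F] L) x) +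
    (sg (F := F) : L ≃ₐ[F] L) ((sg (F := F) : L ≃ₐ[F] L) x) * x

theorem sigma2_algebraMap_mul (c : F) (x : L) :
    sigma2 F (algebraMap F L c * x) = algebraMap F L c ^ 2 * sigma2 F x := by
  simp only [sigma2, map_mul, AlgEquiv.commutes]
  ring

include e in
theorem trace_inv_ne_zero {c : L} (hn : Algebra.norm F c = 1) (hw : sigma2 F c ≠ 0) :
    Algebra.trace F L c⁻¹ ≠ 0 := by
  intro h
  have h1 := norm_eq e c
  rw [hn, map_one] at h1
  have h2 := trace_eq e c⁻¹
  rw [h, map_zero, map_inv₀, map_inv₀] at h2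
  apply hw
  have hc : c ≠ 0 := fun h0 => by simp [h0] at hn
  have hc1 : σ c ≠ 0 := (map_ne_zero _).2 hc
  have hc2 : σ (σ c) ≠ 0 := (map_ne_zero _).2 hc1
  field_simp at h2
  simp only [sigma2]
  linear_combination -h2

include e in
/-- A cubic without roots gives an element of given norm, trace zero, given second function. -/
theorem exists_of_no_root {w n : F} (h : ∀ x : F, x ^ 3 + w * x - n ≠ 0) :
    ∃ d : L, Algebra.trace F L d = 0 ∧ Algebra.norm F d = n ∧ sigma2 F d = algebraMap F L w := by
  classical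
  open Polynomial in
  set f : F[X] := X ^ 3 + C w * X - C n with hf
  have hdeg : f.natDegree = 3 := by rw [hf]; compute_degree!
  have hirr : Irreducible f := by
    rw [Polynomial.irreducible_iff_roots_eq_zero_of_degree_le_three (by omega) (by omega)]
    refine Multiset.eq_zero_of_forall_notMem fun x hx => h x ?_
    have := Polynomial.isRoot_of_mem_roots hx
    simpa [hf, Polynomial.IsRoot] using this
  haveI := Fact.mk hirr
  obtain ⟨ψ⟩ := FiniteField.nonempty_algHom_of_finrank_dvd (F := F) (K := AdjoinRoot f) (L := L) (by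
    rw [(AdjoinRoot.powerBasis hirr.ne_zero).finrank, AdjoinRoot.powerBasis_dim, hdeg, finrank_eq_three e])
  set d := ψ (AdjoinRoot.root f) with hd
  have hroot : d ^ 3 + algebraMap F L w * d - algebraMap F L n = 0 := by
    have h0 := Polynomial.aeval_algHom_apply ψ (AdjoinRoot.root f) f
    rw [AdjoinRoot.aeval_eq, AdjoinRoot.mk_self, map_zero, ← hd] at h0
    simpa [hf] using h0
  have hnF : σ d ≠ d := fun hfix => by
    obtain ⟨c, hc⟩ := mem_range_of_sg_fixed e hfix
    refine h c ((algebraMap F L).injective ?_)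
    rw [map_zero, map_sub, map_add, map_pow, map_mul, hc]
    exact hroot
  have r1 : σ d ^ 3 + algebraMap F L w * σ d - algebraMap F L n = 0 := by
    have := congrArg σ hroot
    simpa using this
  have r2 : σ (σ d) ^ 3 + algebraMap F L w * σ (σ d) - algebraMap F L n = 0 := by
    have := congrArg σ r1
    simpa using this
  have hne1 : σ (σ d) ≠ σ d := fun e' => hnF ((σ : L ≃ₐ[F] L).injective e')
  have hne2 : σ (σ d) ≠ d := fun e' => hnF (by
    have := congrArg σ e'
    rw [sg_three e] at this
    exact this.symm)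
  have q1 : d ^ 2 + d * σ d + σ d ^ 2 + algebraMap F L w = 0 :=
    (mul_eq_zero.1 (show (d - σ d) * (d ^ 2 + d * σ d + σ d ^ 2 + algebraMap F L w) = 0 by
      linear_combination hroot - r1)).resolve_left (sub_ne_zero.2 hnF.symm)
  have q2 : σ (σ d) ^ 2 + σ (σ d) * σ d + σ d ^ 2 + algebraMap F L w = 0 :=
    (mul_eq_zero.1 (show (σ (σ d) - σ d) * (σ (σ d) ^ 2 + σ (σ d) * σ d + σ d ^ 2 + algebraMap F L w) = 0 by
      linear_combination r2 - r1)).resolve_left (sub_ne_zero.2 hne1)
  have hsum : d + σ d + σ (σ d) = 0 :=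
    (mul_eq_zero.1 (show (d - σ (σ d)) * (d + σ d + σ (σ d)) = 0 by
      linear_combination q1 - q2)).resolve_left (sub_ne_zero.2 hne2.symm)
  have hd2 : σ (σ d) = -(d + σ d) := by linear_combination hsum
  refine ⟨d, (algebraMap F L).injective (by rw [trace_eq e, hsum, map_zero]),
    (algebraMap F L).injective ?_, ?_⟩
  · rw [norm_eq e, hd2]
    linear_combination hroot - d * q1
  · rw [sigma2, hd2]
    linear_combination -q1

/-- Some non-zero `w` gives a cubic without roots, if the norm is a cube. -/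
theorem exists_w_of_cube {n x₀ : F} (hn : n ≠ 0) (h0 : x₀ ^ 3 = n) :
    ∃ w : F, w ≠ 0 ∧ ∀ x : F, x ^ 3 + w * x - n ≠ 0 := by
  classical
  by_contra hcon
  push Not at hcon
  have hx0 : x₀ ≠ 0 := fun h => hn (by rw [← h0, h]; ring)
  have hsub : (Finset.univ : Finset F).erase 0 ⊆
      (((Finset.univ : Finset F).erase 0).erase x₀).image fun x => (n - x ^ 3) / x := by
    intro w hw
    obtain ⟨x, hx⟩ := hcon w (Finset.mem_erase.1 hw).1
    have hx1 : x ≠ 0 := fun h => hn (by rw [h] at hx; linear_combination -hx)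
    refine Finset.mem_image.2 ⟨x, Finset.mem_erase.2 ⟨fun h => (Finset.mem_erase.1 hw).1 ?_,
      Finset.mem_erase.2 ⟨hx1, Finset.mem_univ _⟩⟩, ?_⟩
    · subst h
      exact (mul_eq_zero.1 (show w * x = 0 by linear_combination hx - h0)).resolve_right hx1
    · field_simp
      linear_combination -hx
  have h1 := (Finset.card_le_card hsub).trans Finset.card_image_le
  rw [Finset.card_erase_of_mem (Finset.mem_erase.2 ⟨hx0, Finset.mem_univ _⟩),
    Finset.card_erase_of_mem (Finset.mem_univ _), Finset.card_univ] at h1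
  have := Fintype.one_lt_card (α := F)
  omega

/-- Some non-zero `w` gives a cubic without roots, unless the field has four or seven elements. -/
theorem exists_w {n : F} (hn : n ≠ 0) (h4 : Fintype.card F ≠ 4) (h7 : Fintype.card F ≠ 7) :
    ∃ w : F, w ≠ 0 ∧ ∀ x : F, x ^ 3 + w * x - n ≠ 0 := by
  classical
  by_cases h3 : 3 ∣ Fintype.card F - 1
  swap
  · have hco : (Nat.card Fˣ).Coprime 3 := by
      rw [Nat.card_units, Nat.card_eq_fintype_card]
      exact ((Nat.Prime.coprime_iff_not_dvd Nat.prime_three).2 h3).symm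
    obtain ⟨x, hx⟩ := (powCoprime hco).surjective (Units.mk0 n hn)
    exact exists_w_of_cube hn (x₀ := (x : F)) (by simpa [Units.ext_iff] using hx)
  by_cases hcube : ∃ x₀, x₀ ^ 3 = n
  · obtain ⟨x₀, hx₀⟩ := hcube
    exact exists_w_of_cube hn hx₀
  push Not at hcube
  by_contra hcon
  push Not at hcon
  have hne : ∀ x : Fˣ, n * (x⁻¹ : Fˣ) - (x : F) ^ 2 ≠ 0 := fun x h => hcube (x : F) (by
    simp only [Units.val_inv_eq_inv_val] at h
    field_simp at h
    linear_combination -h)
  let f : Fˣ → Fˣ := fun x => Units.mk0 _ (hne x)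
  have hsur : Function.Surjective f := by
    intro w
    obtain ⟨x, hx⟩ := hcon (w : F) w.ne_zero
    have hx0 : x ≠ 0 := fun h => hn (by rw [h] at hx; linear_combination -hx)
    refine ⟨Units.mk0 x hx0, Units.ext ?_⟩
    simp only [f, Units.val_mk0, Units.val_inv_eq_inv_val]
    field_simp
    linear_combination -hx
  have h := (Finite.injective_iff_surjective.2 hsur |> fun hi =>
    Fintype.sum_bijective f ⟨hi, hsur⟩ (fun x => (f x : F) ^ 3) (fun x => (x : F) ^ 3) (fun _ => rfl))
  have hexp : ∀ x : Fˣ, (f x : F) ^ 3 =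
      n ^ 3 * ((x⁻¹ : Fˣ) : F) ^ 3 - 3 * n ^ 2 + 3 * n * (x : F) ^ 3 - (x : F) ^ 6 := fun x => by
    simp only [f, Units.val_mk0, Units.val_inv_eq_inv_val]
    field_simp
    ring
  have hs3 : ∑ x : Fˣ, (x : F) ^ 3 = 0 := by
    rw [FiniteField.sum_pow_units, if_neg]
    intro h
    rcases (Nat.dvd_prime Nat.prime_three).1 h with h' | h' <;> omega
  have hs6 : ∑ x : Fˣ, (x : F) ^ 6 = 0 := by
    rw [FiniteField.sum_pow_units, if_neg]
    intro h
    have := Nat.le_of_dvd (by norm_num) h
    obtain ⟨k, hk⟩ := h3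
    have : k = 1 ∨ k = 2 := by
      rcases k with _ | _ | _ | k <;> simp_all <;> omega
    omega
  have hsi : ∑ x : Fˣ, ((x⁻¹ : Fˣ) : F) ^ 3 = 0 := by
    rw [← hs3]
    exact Equiv.sum_comp (Equiv.inv Fˣ) fun x : Fˣ => (x : F) ^ 3
  have hs0 : ∑ _x : Fˣ, (1 : F) = -1 := by
    have := FiniteField.sum_pow_units F 0
    simpa using this
  simp only [hexp, Finset.sum_add_distrib, Finset.sum_sub_distrib, ← Finset.mul_sum, hsi, hs3, hs6,
    mul_zero, add_zero, zero_sub, sub_zero] at h
  rw [Finset.sum_const, Finset.card_univ, nsmul_eq_mul, mul_one] at hs0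
  rw [Finset.sum_const, Finset.card_univ, nsmul_eq_mul, hs0] at h
  have h30 : (3 : F) = 0 := by
    have : (3 : F) * n ^ 2 = 0 := by linear_combination h
    exact (mul_eq_zero.1 this).resolve_right (pow_ne_zero 2 hn)
  obtain ⟨p, hp⟩ := CharP.exists F
  obtain ⟨k, hpp, hk⟩ := FiniteField.card F p
  have hp3 : p = 3 := (Nat.prime_dvd_prime_iff_eq hpp Nat.prime_three).1
    ((CharP.cast_eq_zero_iff F p 3).1 (by exact_mod_cast h30))
  have hdvd : 3 ∣ Fintype.card F := by rw [hk, hp3]; exact dvd_pow_self 3 k.ne_zero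
  have := Fintype.one_lt_card (α := F)
  omega

/-! ### The matrices -/

/-- Multiplications as matrices. -/
noncomputable def mat : L →ₐ[F] Matrix (Fin 3) (Fin 3) F :=
  (Matrix.toLinAlgEquiv'.symm.toAlgHom).comp ((e.conjAlgEquiv F).toAlgHom.comp (Algebra.lmul F L))

theorem mat_mulVec (a x : L) : mat e a *ᵥ e x = e (a * x) := by
  rw [← Matrix.toLinAlgEquiv'_apply]
  simp [mat]

/-- Multiplications as invertible matrices. -/
noncomputable def gl : Lˣ →* GL (Fin 3) F := Units.map (mat e : L →* Matrix (Fin 3) (Fin 3) F)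

theorem gl_mulVec (a : Lˣ) (x : L) :
    (gl e a : Matrix (Fin 3) (Fin 3) F) *ᵥ e x = e ((a : L) * x) :=
  mat_mulVec e a x

theorem det_mat (a : L) : (mat e a).det = Algebra.norm F a := by
  rw [Algebra.norm_apply, ← LinearMap.det_conj (Algebra.lmul F L a) e, ← LinearMap.det_toMatrix']
  rfl

theorem gl_mem_specialLinear {a : Lˣ} (h : Algebra.norm F (a : L) = 1) :
    gl e a ∈ specialLinear (Fin 3) F := by
  rw [specialLinear, MonoidHom.mem_ker]
  apply Units.ext
  rw [Matrix.GeneralLinearGroup.val_det_apply, Units.val_one]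
  exact (det_mat e a).trans h

/-- The Frobenius as a linear map in coordinates. -/
noncomputable def frobLin : (Fin 3 → F) →ₗ[F] (Fin 3 → F) :=
  e.toLinearMap ∘ₗ (σ).toLinearMap ∘ₗ e.symm.toLinearMap

theorem frobLin_apply (x : L) : frobLin e (e x) = e (σ x) := by simp [frobLin]

theorem frobLin_cube : frobLin e ∘ₗ frobLin e ∘ₗ frobLin e = LinearMap.id :=
  LinearMap.ext fun y => by
    obtain ⟨x, rfl⟩ := e.surjective y
    simp [frobLin_apply, sg_three e]

/-- The Frobenius as an invertible matrix. -/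
noncomputable def frob : GL (Fin 3) F where
  val := LinearMap.toMatrix' (frobLin e)
  inv := LinearMap.toMatrix' (frobLin e ∘ₗ frobLin e)
  val_inv := by rw [← LinearMap.toMatrix'_comp, frobLin_cube, LinearMap.toMatrix'_id]
  inv_val := by rw [← LinearMap.toMatrix'_comp, LinearMap.comp_assoc, frobLin_cube, LinearMap.toMatrix'_id]

theorem frob_mulVec (x : L) : (frob e : Matrix (Fin 3) (Fin 3) F) *ᵥ e x = e (σ x) := by
  show LinearMap.toMatrix' (frobLin e) *ᵥ e x = _
  rw [LinearMap.toMatrix'_mulVec, frobLin_apply]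

/-- The linear form `x ↦ Tr (θ x)`. -/
noncomputable def tf (θ : L) : Fin 3 → F :=
  fun j => Algebra.trace F L (θ * e.symm (Pi.single j 1))

theorem tf_dot (θ x : L) : tf e θ ⬝ᵥ e x = Algebra.trace F L (θ * x) := by
  let T : (Fin 3 → F) →ₗ[F] F :=
    (Algebra.trace F L).comp ((LinearMap.mulLeft F θ).comp e.symm.toLinearMap)
  have h := T.pi_apply_eq_sum_univ (e x)
  have hx : T (e x) = Algebra.trace F L (θ * x) := by simp [T]
  rw [hx] at h
  rw [h, dotProduct]
  refine Finset.sum_congr rfl fun i _ => ?_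
  rw [smul_eq_mul, mul_comm, tf]
  simp only [T, LinearMap.comp_apply, LinearMap.mulLeft_apply, LinearEquiv.coe_toLinearMap]
  congr 3
  congr 1
  funext j
  simp [Pi.single_apply, eq_comm]

theorem tf_smul (c : F) (θ : L) : tf e (algebraMap F L c * θ) = c • tf e θ := by
  funext j
  simp only [tf, Pi.smul_apply]
  rw [mul_assoc, ← Algebra.smul_def, map_smul]

theorem tf_injective : Function.Injective (tf e) := by
  intro θ η h
  by_contra hne
  have hall : ∀ x, Algebra.trace F L ((θ - η) * x) = 0 := fun x => by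
    rw [sub_mul, map_sub, ← tf_dot e, ← tf_dot e, h, sub_self]
  refine hne (sub_eq_zero.1 ((traceForm_nondegenerate F L).1 _ fun x => ?_))
  rw [Algebra.traceForm_apply]
  exact hall x

theorem tf_surjective (a : Fin 3 → F) : ∃ θ, tf e θ = a := by
  let T : L →ₗ[F] (Fin 3 → F) :=
    { toFun := tf e
      map_add' := fun x y => funext fun j => by simp [tf, add_mul]
      map_smul' := fun c x => by rw [Algebra.smul_def]; exact tf_smul e c x }
  exact (LinearMap.injective_iff_surjective_of_finrank_eq_finrank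
    (e.finrank_eq)).1 (show Function.Injective T from tf_injective e) a

theorem frob_mem_specialLinear : frob e ∈ specialLinear (Fin 3) F := by
  set P := (frob e : Matrix (Fin 3) (Fin 3) F) with hP
  let G : Matrix (Fin 3) (Fin 3) F := Matrix.of fun i j =>
    Algebra.trace F L (e.symm (Pi.single i 1) * e.symm (Pi.single j 1))
  have hG : ∀ x y, e x ⬝ᵥ (G *ᵥ e y) = Algebra.trace F L (x * y) := by
    intro x y
    have hGy : G *ᵥ e y = tf e y := by
      funext i
      have h1 := tf_dot e (e.symm (Pi.single i 1)) y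
      rw [mul_comm] at h1
      show (fun j => G i j) ⬝ᵥ e y = tf e y i
      refine Eq.trans ?_ (h1.trans ?_)
      · rfl
      · rfl
    rw [hGy, dotProduct_comm, tf_dot, mul_comm]
  have hG0 : G.det ≠ 0 := fun h => by
    obtain ⟨v, hv0, hv⟩ := exists_mulVec_eq_zero_iff.2 h
    obtain ⟨y, rfl⟩ := e.surjective v
    have hy : y = 0 := (traceForm_nondegenerate F L).1 _ fun x => by
      rw [Algebra.traceForm_apply, mul_comm, ← hG x y, hv, dotProduct_zero]
    exact hv0 (by rw [hy, map_zero])
  have hPG : Pᵀ * G * P = G := by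
    refine Matrix.ext fun i j => ?_
    obtain ⟨x, hx⟩ := e.surjective (Pi.single i 1)
    obtain ⟨y, hy⟩ := e.surjective (Pi.single j 1)
    have h1 : (Pᵀ * G * P) i j = (P *ᵥ e x) ⬝ᵥ (G *ᵥ (P *ᵥ e y)) := by
      rw [hx, hy, mulVec_single_one, mulVec_single_one, mul_assoc]
      rfl
    have h2 : G i j = e x ⬝ᵥ (G *ᵥ e y) := by
      rw [hx, hy, single_dotProduct, one_mul, mulVec_single_one]
      rfl
    rw [h1, h2, hP, frob_mulVec, frob_mulVec, hG, hG, ← map_mul, trace_sg e]
  have hd2 : P.det * P.det = 1 := by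
    have := congrArg Matrix.det hPG
    rw [det_mul, det_mul, det_transpose, mul_right_comm] at this
    exact (mul_eq_right₀ hG0).1 this
  have hd3 : P.det * P.det * P.det = 1 := by
    rw [← det_mul, ← det_mul, show P * P * P = 1 from ?_, det_one]
    refine Matrix.ext_of_mulVec_single fun i => ?_
    obtain ⟨x, hx⟩ := e.surjective (Pi.single i 1)
    rw [← hx, ← mulVec_mulVec, ← mulVec_mulVec, hP, frob_mulVec, frob_mulVec, frob_mulVec, sg_three e, one_mulVec]
  rw [hd2, one_mul] at hd3
  rw [specialLinear, MonoidHom.mem_ker]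
  apply Units.ext
  rw [Matrix.GeneralLinearGroup.val_det_apply, Units.val_one]
  exact hd3

theorem conj_tf_gl (a : Lˣ) (θ : L) :
    tf e θ ᵥ* (((gl e a)⁻¹ : GL (Fin 3) F) : Matrix (Fin 3) (Fin 3) F) = tf e (θ * ((a⁻¹ : Lˣ) : L)) := by
  refine dotProduct_eq _ _ fun y => ?_
  obtain ⟨x, rfl⟩ := e.surjective y
  rw [← dotProduct_mulVec, ← map_inv, gl_mulVec, tf_dot, tf_dot, mul_assoc]

theorem conj_tf_frob (θ : L) :
    tf e θ ᵥ* (((frob e)⁻¹ : GL (Fin 3) F) : Matrix (Fin 3) (Fin 3) F) = tf e (σ θ) := by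
  refine dotProduct_eq _ _ fun y => ?_
  obtain ⟨x, rfl⟩ := e.surjective y
  rw [← dotProduct_mulVec, tf_dot]
  show tf e θ ⬝ᵥ (LinearMap.toMatrix' (frobLin e ∘ₗ frobLin e) *ᵥ e x) = _
  rw [LinearMap.toMatrix'_mulVec, LinearMap.comp_apply, frobLin_apply, frobLin_apply, tf_dot,
    ← trace_sg e (θ * σ (σ x)), map_mul, sg_three e]

include e in
/-- A generator of the elements of norm one. -/
theorem exists_generator : ∃ c : Lˣ, Algebra.norm F (c : L) = 1 ∧
    orderOf c = Fintype.card F ^ 2 + Fintype.card F + 1 := by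
  obtain ⟨g, hg⟩ := IsCyclic.exists_ofOrder_eq_natCard (α := Lˣ)
  refine ⟨g ^ (Fintype.card F - 1), ?_, ?_⟩
  · rw [Units.val_pow_eq_pow_val, map_pow]
    exact FiniteField.pow_card_sub_one_eq_one _ (Algebra.norm_ne_zero_iff.2 g.ne_zero)
  · rw [orderOf_pow' _ (by have := Fintype.one_lt_card (α := F); omega), hg, Nat.card_units, card_L e]
    obtain ⟨k, hk⟩ : ∃ k, Fintype.card F = k + 2 :=
      ⟨Fintype.card F - 2, by have := Fintype.one_lt_card (α := F); omega⟩
    rw [hk]
    have e1 : (k + 2) ^ 3 - 1 = (k + 2 - 1) * ((k + 2) ^ 2 + (k + 2) + 1) := by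
      have : (k + 2) ^ 3 = (k + 1) * ((k + 2) ^ 2 + (k + 2) + 1) + 1 := by ring
      rw [this, show k + 2 - 1 = k + 1 from rfl]
      omega
    rw [e1, Nat.gcd_mul_right_left, Nat.mul_div_cancel_left _ (by omega)]

include e in
/-- A power of the generator is scalar only at multiples of a third of its order. -/
theorem dvd_of_pow_scalar {c : Lˣ} (hc : Algebra.norm F (c : L) = 1) {s : ℕ} {z : F}
    (h : algebraMap F L z = (c : L) ^ s) : orderOf c ∣ 3 * s := by
  apply orderOf_dvd_of_pow_eq_one
  have hz : z ^ 3 = 1 := by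
    have := congrArg (Algebra.norm F) h
    rwa [Algebra.norm_algebraMap, finrank_eq_three e, map_pow, hc, one_pow] at this
  apply Units.ext
  rw [Units.val_pow_eq_pow_val, mul_comm, pow_mul, ← h, ← map_pow, hz, map_one, Units.val_one]

include e in
/-- An element outside `F` generates `L`. -/
theorem mem_subalgebra {S : Subalgebra F L} {d : L} (hd : d ∈ S) (hnF : ∀ z, algebraMap F L z ≠ d) (x : L) :
    x ∈ S := by
  haveI := Subalgebra.isSimpleOrder_of_finrank_prime F L (by rw [finrank_eq_three e]; exact Nat.prime_three)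
  rcases eq_bot_or_eq_top S with h | h
  · rw [h, Algebra.mem_bot] at hd
    obtain ⟨z, hz⟩ := hd
    exact absurd hz (hnF z)
  · rw [h]; exact Algebra.mem_top

include e in
theorem not_scalar_gen {c : Lˣ} (hc : Algebra.norm F (c : L) = 1)
    (ho : orderOf c = Fintype.card F ^ 2 + Fintype.card F + 1) (z : F) : algebraMap F L z ≠ (c : L) := by
  intro h
  have := Nat.le_of_dvd (by norm_num) (dvd_of_pow_scalar e hc (s := 1) (by rw [pow_one]; exact h))
  have h2 : 2 ≤ Fintype.card F := Fintype.one_lt_card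
  rw [ho] at this
  nlinarith

/-- Overgroups of the Singer normaliser are irreducible. -/
theorem irreducible_of_singer {M : Subgroup (GL (Fin 3) F)}
    (hC : ∀ c : Lˣ, Algebra.norm F (c : L) = 1 → gl e c ∈ M) : MaxSub.Irreducible M := by
  obtain ⟨c, hc, ho⟩ := exists_generator e
  intro W hW
  let S : Subalgebra F L :=
    { carrier := {a | ∀ w ∈ W, mat e a *ᵥ w ∈ W}
      mul_mem' := fun {a b} ha hb w hw => by rw [map_mul, ← mulVec_mulVec]; exact ha _ (hb w hw)
      add_mem' := fun {a b} ha hb w hw => by rw [map_add, add_mulVec]; exact W.add_mem (ha w hw) (hb w hw)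
      algebraMap_mem' := fun z w hw => by
        rw [AlgHom.commutes, Algebra.algebraMap_eq_smul_one, smul_mulVec, one_mulVec]
        exact W.smul_mem z hw }
  have hall := mem_subalgebra e (S := S) (d := (c : L)) (fun w hw => hW _ (hC c hc) w hw)
    (not_scalar_gen e hc ho)
  refine or_iff_not_imp_left.2 fun hne => eq_top_iff.2 fun y _ => ?_
  obtain ⟨w, hw, hw0⟩ := Submodule.exists_mem_ne_zero_of_ne_bot hne
  obtain ⟨x, rfl⟩ := e.surjective w
  obtain ⟨z, rfl⟩ := e.surjective y
  have hx : x ≠ 0 := fun h => hw0 (by rw [h, map_zero])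
  have h : ∀ w ∈ W, mat e (z / x) *ᵥ w ∈ W := hall (z / x)
  have := h _ hw
  rwa [mat_mulVec, div_mul_cancel₀ _ hx] at this

end CfsgLib.SLThree.Singer
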